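import Cfsg.Agent.Lib.AltTwelve.Fus.Turn
import Cfsg.Agent.Lib.AutL34Type.Main
import Cfsg.Agent.Lib.ZStar.InvariantSylow

/-!
# The three possibilities for the conjugates of the central involution
-/

set_option autoImplicit false
set_option maxRecDepth 100000
set_option linter.unusedSectionVars false
set_option linter.style.haveILetI false

namespace Cfsg.Agent.AltTwelve.Fus

open Cfsg.Agent.AltTwelve.Sp

universe u

theorem twist_table : (∀ x, cand 1 (tw x) = cand 8 x) ∧ (∀ x, cand 120 (tw x) = cand 113 x) ∧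
    (∀ x, cand 0 x = true ↔ x = 21) ∧ (∀ x : Fin 64, tw (tw x) = x) ∧ tQ ≠ al ∧ al * al = 1 ∧ al ≠ 1 := by
  decide +kernel

/-- The only central involution of the centralizer. -/
theorem central_eq {z : C0} (hz : ∀ c : C0, Commute z c) (h1 : z ≠ 1) : z = alC :=
  (cent_nodes z fun k => hz (T (nodeIdx k))).resolve_left h1

variable {G : Type u} [Group G] [Finite G]

/-- The template's data give a frame. -/
theorem exists_frame (α : G) (hα : orderOf α = 2) (S : Sylow 2 G)
    (hαS : α ∈ (S : Subgroup G) ⊓ Subgroup.centralizer ((S : Subgroup G) : Set G))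
    (φ : ↥(Subgroup.centralizer ({α} : Set G)) ≃* C0) : ∃ ψ : C0 →* G, Frame α ψ := by
  haveI : Fact (Nat.Prime 2) := ⟨Nat.prime_two⟩
  set C := Subgroup.centralizer ({α} : Set G) with hC
  refine ⟨C.subtype.comp φ.symm.toMonoidHom, ?_⟩
  have hrange : (C.subtype.comp φ.symm.toMonoidHom).range = C := by
    rw [MonoidHom.range_comp, MonoidHom.range_eq_top.2 φ.symm.surjective, ← MonoidHom.range_eq_map,
      Subgroup.range_subtype]
  refine ⟨Subtype.val_injective.comp φ.symm.injective, hrange, ?_, fun P => ?_⟩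
  · have hmem : α ∈ C := Subgroup.mem_centralizer_singleton_iff.2 rfl
    have hz : φ ⟨α, hmem⟩ = alC := by
      refine central_eq (fun c => ?_) fun h => ?_
      · obtain ⟨x, rfl⟩ := φ.surjective c
        exact (show Commute (⟨α, hmem⟩ : C) x from
          Subtype.ext (Subgroup.mem_centralizer_singleton_iff.1 x.2).symm).map φ.toMonoidHom
      · have h' := congrArg Subtype.val (φ.injective (h.trans (map_one φ).symm))
        change α = 1 at h'
        rw [h', orderOf_one] at hα
        exact absurd hα (by decide)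
    change ((φ.symm alC : C) : G) = α
    rw [← hz, φ.symm_apply_apply]
  · have hSC : (S : Subgroup G) ≤ C := fun x hx => Subgroup.mem_centralizer_singleton_iff.2
      (Subgroup.mem_centralizer_iff.1 hαS.2 x hx)
    have hcard : Nat.card ↥C = 512 * 45 := by
      rw [Nat.card_congr φ.toEquiv, card_C0_eq]
    obtain ⟨k, hk⟩ := IsPGroup.iff_card.1 S.isPGroup'
    have hdvd : 2 ^ k ∣ 512 * 45 := hk ▸ hcard ▸ Subgroup.card_dvd_of_le hSC
    have h2 := (Nat.Coprime.pow_left k (by norm_num : Nat.Coprime 2 45)).dvd_of_dvd_mul_right hdvd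
    obtain ⟨Q, hQ⟩ := (IsPGroup.of_card (p := 2) (n := 9) (by
      rw [Subgroup.card_map_of_injective (Subtype.val_injective.comp φ.symm.injective), card_sylC]
      norm_num) : IsPGroup 2 ↥(sylC.map (C.subtype.comp φ.symm.toMonoidHom))).exists_le_sylow
    have hQS : Nat.card (Q : Subgroup G) = Nat.card (S : Subgroup G) := Nat.card_congr (Q.equiv S).toEquiv
    have hge := Subgroup.card_le_of_le hQ
    rw [Subgroup.card_map_of_injective (Subtype.val_injective.comp φ.symm.injective), card_sylC, hQS, hk] at hge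
    rw [Nat.card_congr (P.equiv S).toEquiv, hk]
    exact le_antisymm (Nat.le_of_dvd (by norm_num) h2) hge

namespace Frame

variable {a : G} {ψ : C0 →* G} (D : Frame a ψ)
include D

/-- Twisting the centralizer keeps a frame. -/
theorem twisted : Frame a (ψ.comp twist.toMonoidHom) where
  inj := D.inj.comp twist.injective
  range := by
    rw [MonoidHom.range_comp, MonoidHom.range_eq_top.2 twist.surjective, ← MonoidHom.range_eq_map]
    exact D.range
  alpha := by
    change ψ (twist alC) = a
    rw [twist_alpha, D.alpha]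
  two := D.two

theorem fused_twisted (x : Fin 64) : fused a (ψ.comp twist.toMonoidHom) x = fused a ψ (tw x) := by
  rw [Bool.eq_iff_iff, fused_iff, fused_iff, MonoidHom.comp_apply]
  change IsConj a (ψ (twist (e x))) ↔ _
  rw [twist_e]

/-- One conjugate only. -/
theorem alone (h : ∀ x, fused a ψ x = cand 0 x) :
    Cfsg.oddCore G ⊔ Subgroup.centralizer ({a} : Set G) = ⊤ ∧ IsMulCommutative ↥(Cfsg.oddCore G) := by
  haveI : Fact (Nat.Prime 2) := ⟨Nat.prime_two⟩
  have hne : a ≠ 1 := by
    intro e'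
    rw [← D.alpha, ← map_one ψ] at e'
    exact twist_table.2.2.2.2.2.2 (congrArg Subtype.val (D.inj e'))
  have ha : orderOf a = 2 := by
    refine orderOf_eq_prime ?_ hne
    rw [pow_two, ← D.alpha, ← map_mul, show alC * alC = 1 from Subtype.ext twist_table.2.2.2.2.2.1, map_one]
  have hiso : Cfsg.IsIsolatedInvolution a := by
    refine ⟨ha, fun g hg => ?_⟩
    obtain ⟨c, hc⟩ : g * a * g⁻¹ ∈ ψ.range := D.range ▸ Subgroup.mem_centralizer_singleton_iff.2 hg.symm.eq
    have hc2 : c * c = 1 := D.inj (by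
      rw [map_mul, map_one, hc, show g * a * g⁻¹ * (g * a * g⁻¹) = g * (a * a) * g⁻¹ by group, ← pow_two, ← ha,
        pow_orderOf_eq_one, mul_one, mul_inv_cancel])
    obtain ⟨w, x, hx⟩ := exists_four hc2
    have hfx : fused a ψ x = true := fused_iff.2 ((isConj_iff.2 ⟨g, hc.symm⟩).trans
      (isConj_iff.2 ⟨ψ w, by rw [← map_inv, ← map_mul, ← map_mul, hx]⟩))
    obtain rfl := (twist_table.2.2.1 x).1 ((h x).symm.trans hfx)
    have hceq : c = alC := by
      rw [show c = w⁻¹ * e 21 * w by rw [← hx]; group, e_alpha, mul_assoc, ← (alC_central w).eq,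
        inv_mul_cancel_left]
    rw [← hc, hceq, D.alpha]
  refine ⟨Cfsg.Agent.ZStar.InvariantSylow.oddCore_sup_centralizer hiso, ?_⟩
  have hle : ψ.range = Subgroup.centralizer ({a} : Set G) := D.range
  let θ : C0 ≃* ↥(Subgroup.centralizer ({a} : Set G)) :=
    (MonoidHom.ofInjective D.inj).trans (MulEquiv.subgroupCongr hle)
  haveI : (flips.map θ.toMonoidHom).Normal := Subgroup.Normal.map inferInstance θ.toMonoidHom θ.surjective
  refine (AutL34Type.inverts_oddCore ha (flips.map θ.toMonoidHom) ?_ ?_).1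
  · rw [Subgroup.card_map_of_injective θ.injective, card_flips]
  · intro y hy
    obtain ⟨c, rfl⟩ := θ.surjective y
    refine Subgroup.mem_map.2 ⟨c, cent_flips (Subgroup.mem_centralizer_iff.2 fun d hd => θ.injective ?_), rfl⟩
    rw [map_mul, map_mul]
    exact Subgroup.mem_centralizer_iff.1 hy _ (Subgroup.mem_map.2 ⟨d, hd, rfl⟩)

end Frame

/-- The trichotomy. -/
theorem cases (α : G) (hα : orderOf α = 2) (S : Sylow 2 G)
    (hαS : α ∈ (S : Subgroup G) ⊓ Subgroup.centralizer ((S : Subgroup G) : Set G))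
    (hC : Nonempty (↥(Subgroup.centralizer ({α} : Set G)) ≃* C0)) :
    (Cfsg.oddCore G ⊔ Subgroup.centralizer ({α} : Set G) = ⊤ ∧ IsMulCommutative ↥(Cfsg.oddCore G)) ∨
      (∃ (F : Type) (_ : Field F) (_ : Fintype F), Fintype.card F = 2 ∧ Nonempty (G ≃* Cfsg.PSp 3 F)) ∨
      ∃ (ψ : C0 →* G) (g : G), Gen.Base α ψ g := by
  obtain ⟨φ⟩ := hC
  obtain ⟨ψ, D⟩ := exists_frame α hα S hαS φ
  obtain ⟨m, hm, h⟩ := D.fused_cases
  obtain ⟨t1, t27, -⟩ := twist_table
  rcases hm with e | e | e | e | e
  · obtain rfl : m = 0 := Fin.ext e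
    exact Or.inl (D.alone h)
  · obtain rfl : m = 1 := Fin.ext e
    exact Or.inr (Or.inl (D.seven h))
  · obtain rfl : m = 8 := Fin.ext e
    exact Or.inr (Or.inl (D.twisted.seven fun x => by
      rw [D.fused_twisted, h, ← t1, twist_table.2.2.2.1]))
  · obtain rfl : m = 113 := Fin.ext e
    refine Or.inr (Or.inr ⟨ψ.comp twist.toMonoidHom, D.twisted.twentySeven fun x => ?_⟩)
    rw [D.fused_twisted, h, ← t27, twist_table.2.2.2.1]
  · obtain rfl : m = 120 := Fin.ext e
    exact Or.inr (Or.inr ⟨ψ, D.twentySeven h⟩)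

end Cfsg.Agent.AltTwelve.Fus
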