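import Cfsg.Agent.Lib.AltTwelve.Fus.Sylow

/-!
# Involutions of the centralizer, its order, and the action on the six pairs
-/

set_option autoImplicit false
set_option maxRecDepth 100000
set_option linter.unusedSectionVars false
set_option linter.style.haveILetI false

namespace Cfsg.Agent.AltTwelve.Fus

open Cfsg.Agent.AltTwelve.Sp

/-- The centralizer in the symmetric group has twice the order. -/
theorem card_C0_eq : Nat.card C0 = 23040 := by
  classical
  refine le_antisymm card_C0 ?_
  have hc : Nat.card (Subgroup.centralizer ({al} : Set (Equiv.Perm (Fin 12)))) = 46080 := by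
    rw [Equiv.Perm.nat_card_centralizer, al_cycleType]
    norm_num [Multiset.toFinset_replicate, Nat.factorial]
  set K := Subgroup.centralizer ({al} : Set (Equiv.Perm (Fin 12)))
  set w := Equiv.swap (10 : Fin 12) 11
  have hs : w ∈ K := Subgroup.mem_centralizer_singleton_iff.2 (by decide +kernel)
  have hw : w * w = 1 := Equiv.swap_mul_self _ _
  have hmem : ∀ k : K, k.val * (if Equiv.Perm.sign k.val = 1 then 1 else w) ∈ C0 := by
    intro k
    refine ⟨Equiv.Perm.mem_alternatingGroup.2 ?_, mul_mem k.2 (by split; exacts [one_mem _, hs])⟩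
    rcases Int.units_eq_one_or (Equiv.Perm.sign k.val) with h | h
    · rw [map_mul, if_pos h, h, map_one, mul_one]
    · rw [map_mul, if_neg (by rw [h]; decide), h, Equiv.Perm.sign_swap (by decide)]
      decide
  let f : K → C0 × Fin 2 := fun k => (⟨_, hmem k⟩, if Equiv.Perm.sign k.val = 1 then 0 else 1)
  have hf : Function.Injective f := by
    intro k l h
    obtain ⟨h1, h2⟩ := Prod.ext_iff.1 h
    have h1' := congrArg Subtype.val h1
    change k.val * _ = l.val * _ at h1'
    by_cases hk : Equiv.Perm.sign k.val = 1 <;> by_cases hl : Equiv.Perm.sign l.val = 1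
    all_goals simp only [f, hk, hl, if_true, if_false] at h2 h1'
    · exact Subtype.ext (mul_right_cancel h1')
    · exact absurd h2 (by decide)
    · exact absurd h2 (by decide)
    · exact Subtype.ext (mul_right_cancel h1')
  have := Nat.card_le_card_of_injective f hf
  rw [Nat.card_prod, hc, Nat.card_fin] at this
  omega

/-- The witness for an involution of the fixed Sylow subgroup. -/
def invWit (p : Fin 64 × Fin 8) : Fin 6 × Fin 64 :=
  (Fin.ofNat 6 (ent invTab 9 (64 * p.2.val + p.1.val) % 8),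
    Fin.ofNat 64 (ent invTab 9 (64 * p.2.val + p.1.val) / 8))

theorem inv_table : ∀ (d : Fin 8) (x : Fin 64), d = 0 ∨ ad x (dact d x) ≠ 0 ∨ dmul d d ≠ 0 ∨
    ∀ i, hP (invWit (x, d)).1 (eP x (dP d i)) = eP (invWit (x, d)).2 (hP (invWit (x, d)).1 i) := by
  decide +kernel

theorem code_sq {x : Fin 64} {d : Fin 8} (h : code (x, d) * code (x, d) = 1) :
    ad x (dact d x) = 0 ∧ dmul d d = 0 := by
  rw [code_mul, ← e_zero, ← code_e] at h
  exact ⟨congrArg Prod.fst (code_injective h), congrArg Prod.snd (code_injective h)⟩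

/-- Every involution of the centralizer is conjugate into the three fours. -/
theorem exists_four {c : C0} (hc : c * c = 1) : ∃ h : C0, ∃ x, h * c * h⁻¹ = e x := by
  haveI : Fact (Nat.Prime 2) := ⟨Nat.prime_two⟩
  have hp : IsPGroup 2 ↥(Subgroup.zpowers c) := by
    intro g
    obtain ⟨k, hk⟩ := Subgroup.mem_zpowers_iff.1 g.2
    refine ⟨1, Subtype.ext ?_⟩
    rw [Subgroup.coe_pow, ← hk, pow_one, ← zpow_natCast, ← zpow_mul, mul_comm, zpow_mul, zpow_natCast, pow_two,
      hc, one_zpow]
    rfl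
  obtain ⟨P, hP⟩ := hp.exists_le_sylow
  obtain ⟨Q, hQ⟩ := (IsPGroup.of_card (p := 2) (n := 9) (by rw [card_sylC]; norm_num) :
    IsPGroup 2 sylC).exists_le_sylow
  have hQc : (Q : Subgroup C0) = sylC := by
    refine (Subgroup.eq_of_le_of_card_ge hQ ?_).symm
    obtain ⟨k, hk⟩ := IsPGroup.iff_card.1 Q.isPGroup'
    have hdvd : 2 ^ k ∣ 512 * 45 := by
      rw [← hk, show 512 * 45 = Nat.card C0 by rw [card_C0_eq]]
      exact Subgroup.card_subgroup_dvd_card _
    have h2 := (Nat.Coprime.pow_left k (by norm_num : Nat.Coprime 2 45)).dvd_of_dvd_mul_right hdvd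
    rw [card_sylC, hk]
    exact Nat.le_of_dvd (by norm_num) h2
  obtain ⟨g, hg⟩ := MulAction.exists_smul_eq C0 P Q
  have hgc : g * c * g⁻¹ ∈ sylC := by
    rw [← hQc, ← hg, Sylow.coe_subgroup_smul]
    exact ⟨c, hP (Subgroup.mem_zpowers c), rfl⟩
  obtain ⟨⟨x, d⟩, hx⟩ := hgc
  have h2 := code_sq (x := x) (d := d) (by
    rw [hx, show g * c * g⁻¹ * (g * c * g⁻¹) = g * (c * c) * g⁻¹ by group, hc, mul_one, mul_inv_cancel])
  rcases inv_table d x with rfl | h | h | h
  · exact ⟨g, x, by rw [← hx, code_e]⟩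
  · exact absurd h2.1 h
  · exact absurd h2.2 h
  refine ⟨hC (invWit (x, d)).1 * g, (invWit (x, d)).2, ?_⟩
  have hv : hC (invWit (x, d)).1 * code (x, d) = e (invWit (x, d)).2 * hC (invWit (x, d)).1 :=
    Subtype.ext (Equiv.ext h)
  rw [show hC (invWit (x, d)).1 * g * c * (hC (invWit (x, d)).1 * g)⁻¹ =
    hC (invWit (x, d)).1 * (g * c * g⁻¹) * (hC (invWit (x, d)).1)⁻¹ by group, ← hx, hv, mul_inv_cancel_right]

theorem not_square_table : ∀ (d : Fin 8) (x : Fin 64), ad x (dact d x) ≠ 21 ∨ dmul d d ≠ 0 := by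
  decide +kernel

theorem square_table : (∃ p : Fin 64 × Fin 8, ad p.1 (dact p.2 p.1) = 5 ∧ dmul p.2 p.2 = 0) ∧
    (∃ p : Fin 64 × Fin 8, ad p.1 (dact p.2 p.1) = 16 ∧ dmul p.2 p.2 = 0) := by
  decide +kernel

theorem alpha_not_square {c : C0} (hc : c ∈ sylC) : c * c ≠ alC := by
  obtain ⟨⟨x, d⟩, rfl⟩ := hc
  intro h
  rw [code_mul, ← e_alpha, ← code_e] at h
  rcases not_square_table d x with h' | h'
  exacts [h' (congrArg Prod.fst (code_injective h)), h' (congrArg Prod.snd (code_injective h))]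

theorem exists_square {y : Fin 64} (hy : y = 5 ∨ y = 16) : ∃ c ∈ sylC, c * c = e y := by
  obtain ⟨⟨p, h1, h2⟩, ⟨q, h3, h4⟩⟩ := square_table
  rcases hy with rfl | rfl
  · exact ⟨code p, ⟨p, rfl⟩, by rw [← Prod.mk.eta (p := p), code_mul, h1, h2, code_e]⟩
  · exact ⟨code q, ⟨q, rfl⟩, by rw [← Prod.mk.eta (p := q), code_mul, h3, h4, code_e]⟩

theorem central_sylC {y : Fin 64} (hy : y = 5 ∨ y = 16 ∨ y = 21) {c : C0} (hc : c ∈ sylC) : Commute (e y) c := by
  obtain ⟨⟨x, d⟩, rfl⟩ := hc
  have hd : dact d y = y := by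
    rcases hy with rfl | rfl | rfl
    exacts [(d_facts.2.2.2 d).1, (d_facts.2.2.2 d).2.1, (d_facts.2.2.2 d).2.2]
  rw [Commute, SemiconjBy]
  change e y * (e x * dC d) = e x * dC d * e y
  rw [mul_assoc (e x), dC_conj, hd, ← mul_assoc, ← mul_assoc, (e_comm y x).eq]

/-- The value of a permutation commuting with the three fours. -/
def extA (c : Fin 4 → Fin 12) (j : Fin 12) : Fin 12 :=
  eP (Fin.ofNat 64 ((j.val % 4) * 4 ^ (j.val / 4))) (c (Fin.ofNat 4 (j.val / 4)))

theorem reachA_spec : ∀ j : Fin 12,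
    eP (Fin.ofNat 64 ((j.val % 4) * 4 ^ (j.val / 4))) (Fin.ofNat 12 (4 * (j.val / 4))) = j := by
  decide +kernel

theorem extA_small : ∀ a b c : Fin 12, (eP 4 a = a ∧ eP 16 a = a) → (eP 1 b = b ∧ eP 16 b = b) →
    (eP 1 c = c ∧ eP 4 c = c) → ∃ x, ∀ j, extA ![a, b, c, 0] j = eP x j := by
  decide +kernel

/-- The three fours are their own centralizer in the symmetric group. -/
theorem cent_fours {σ : Equiv.Perm (Fin 12)} (h : ∀ x, σ * eP x = eP x * σ) : ∃ x, σ = eP x := by
  have ha : ∀ x i, σ (eP x i) = eP x (σ i) := fun x i => Equiv.Perm.ext_iff.1 (h x) i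
  have hfix : ∀ x i, eP x i = i → eP x (σ i) = σ i := fun x i hi => by rw [← ha, hi]
  obtain ⟨x, hx⟩ := extA_small (σ 0) (σ 4) (σ 8)
    ⟨hfix _ _ (by decide +kernel), hfix _ _ (by decide +kernel)⟩
    ⟨hfix _ _ (by decide +kernel), hfix _ _ (by decide +kernel)⟩
    ⟨hfix _ _ (by decide +kernel), hfix _ _ (by decide +kernel)⟩
  refine ⟨x, Equiv.ext fun j => ?_⟩
  rw [← hx j, extA]
  conv_lhs => rw [← reachA_spec j, ha]
  congr 1
  rcases (show ∀ j : Fin 12, j.val / 4 = 0 ∨ j.val / 4 = 1 ∨ j.val / 4 = 2 by decide) j with e | e | e <;>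
    rw [e] <;> rfl

/-- The pair of a point after a permutation. -/
def pairFun (c : Equiv.Perm (Fin 12)) (i : Fin 6) : Fin 6 := Fin.ofNat 6 ((c (Fin.ofNat 12 (2 * i.val))).val / 2)

theorem pair_al : ∀ j : Fin 12, (al j).val / 2 = j.val / 2 ∧
    (Fin.ofNat 12 (2 * (j.val / 2)) = j ∨ Fin.ofNat 12 (2 * (j.val / 2)) = al j) ∧
    (∀ i : Fin 6, (Fin.ofNat 12 (2 * i.val)).val / 2 = i.val) := by
  decide +kernel

theorem pairFun_apply (c : C0) (j : Fin 12) :
    pairFun c.val (Fin.ofNat 6 (j.val / 2)) = Fin.ofNat 6 ((c.val j).val / 2) := by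
  have hcomm := Equiv.Perm.ext_iff.1 (Subgroup.mem_centralizer_singleton_iff.1 c.2.2) j
  rw [pairFun, Fin.val_ofNat, Nat.mod_eq_of_lt (by omega)]
  rcases (pair_al j).2.1 with e | e <;> rw [e]
  rw [← Equiv.Perm.mul_apply, hcomm, Equiv.Perm.mul_apply, (pair_al _).1]

theorem pairFun_mul (c d : C0) (i : Fin 6) : pairFun (c * d).val i = pairFun c.val (pairFun d.val i) := by
  conv_rhs => arg 2; rw [pairFun]
  rw [pairFun_apply, pairFun, Subgroup.coe_mul, Equiv.Perm.mul_apply]

theorem pairFun_one (i : Fin 6) : pairFun 1 i = i := by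
  refine Fin.ext ?_
  rw [pairFun, Equiv.Perm.one_apply, (pair_al 0).2.2, Fin.val_ofNat]
  omega

/-- The action on the six pairs. -/
def pairHom : C0 →* Equiv.Perm (Fin 6) where
  toFun c :=
    { toFun := pairFun c.val
      invFun := pairFun (c⁻¹).val
      left_inv := fun i => by rw [← pairFun_mul, inv_mul_cancel]; exact pairFun_one i
      right_inv := fun i => by rw [← pairFun_mul, mul_inv_cancel]; exact pairFun_one i }
  map_one' := Equiv.ext pairFun_one
  map_mul' c d := Equiv.ext fun i => pairFun_mul c d i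

theorem sign_pair : ∀ x : Fin 64, Equiv.Perm.sign
    (⟨pairFun (eP x), pairFun (eP x),
      (show ∀ (x : Fin 64) (i : Fin 6), pairFun (eP x) (pairFun (eP x) i) = i by decide +kernel) x,
      (show ∀ (x : Fin 64) (i : Fin 6), pairFun (eP x) (pairFun (eP x) i) = i by decide +kernel) x⟩ :
        Equiv.Perm (Fin 6)) = if (x.val / 2 + x.val / 8 + x.val / 32) % 2 = 0 then 1 else -1 := by
  decide +kernel

theorem alpha_pair : ∀ i, pairFun al i = i := by decide +kernel

/-- The twist by the central involution on odd permutations of the pairs. -/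
def twistFun (c : C0) : C0 := if Equiv.Perm.sign (pairHom c) = 1 then c else c * alC

theorem pairHom_alpha : pairHom alC = 1 := Equiv.ext alpha_pair

theorem twistFun_mul (c d : C0) : twistFun (c * d) = twistFun c * twistFun d := by
  have hz := alC_central d
  have hsq : alC * alC = 1 := Subtype.ext al_facts.2
  unfold twistFun
  rcases Int.units_eq_one_or (Equiv.Perm.sign (pairHom c)) with hc | hc <;>
    rcases Int.units_eq_one_or (Equiv.Perm.sign (pairHom d)) with hd | hd <;>
      simp only [map_mul, hc, hd, mul_one, mul_neg, neg_neg, if_true,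
        show ((-1 : ℤˣ) = 1) = False by simp, if_false]
  · rw [mul_assoc]
  · rw [mul_assoc, mul_assoc, hz.eq]
  · calc c * d = c * d * (alC * alC) := by rw [hsq, mul_one]
      _ = c * (d * alC) * alC := by group
      _ = c * (alC * d) * alC := by rw [hz.eq]
      _ = c * alC * (d * alC) := by group

/-- The outer automorphism of the centralizer. -/
def twist : C0 ≃* C0 where
  toFun := twistFun
  invFun := twistFun
  left_inv c := by
    unfold twistFun
    split <;> rename_i h
    · rfl
    · rw [map_mul, pairHom_alpha, mul_one, if_neg h, mul_assoc,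
        show alC * alC = 1 from Subtype.ext al_facts.2, mul_one]
  right_inv c := by
    unfold twistFun
    split <;> rename_i h
    · rfl
    · rw [map_mul, pairHom_alpha, mul_one, if_neg h, mul_assoc,
        show alC * alC = 1 from Subtype.ext al_facts.2, mul_one]
  map_mul' := twistFun_mul

theorem twist_alpha : twist alC = alC := by
  change twistFun alC = alC
  rw [twistFun, pairHom_alpha, map_one, if_pos rfl]

/-- The twist on the three fours. -/
def tw (x : Fin 64) : Fin 64 := if (x.val / 2 + x.val / 8 + x.val / 32) % 2 = 0 then x else ad x 21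

theorem twist_e (x : Fin 64) : twist (e x) = e (tw x) := by
  change twistFun (e x) = e (tw x)
  have hs : Equiv.Perm.sign (pairHom (e x)) = if (x.val / 2 + x.val / 8 + x.val / 32) % 2 = 0 then 1 else -1 := by
    rw [← sign_pair x]
    exact congrArg _ (Equiv.ext fun i => rfl)
  rw [twistFun, hs, tw]
  split
  · rw [if_pos rfl]
  · rw [if_neg (by decide), ← e_alpha, e_mul]

/-- The elements acting trivially on the six pairs. -/
abbrev flips : Subgroup C0 := pairHom.ker

theorem pairHom_T : ∀ p : Fin 15, ∀ i, pairFun (tP ⟨2 * p.val, by omega⟩) i = Equiv.swap (fstB p) (sndB p) i := by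
  decide +kernel

theorem pair_all : ∀ i j : Fin 6, i ≠ j → ∃ p : Fin 15, Equiv.swap (fstB p) (sndB p) = Equiv.swap i j := by
  decide +kernel

theorem card_flips : Nat.card flips = 32 := by
  have hsurj : pairHom.range = ⊤ := by
    rw [eq_top_iff, ← Equiv.Perm.closure_isSwap, Subgroup.closure_le]
    rintro _ ⟨i, j, hij, rfl⟩
    obtain ⟨p, hp⟩ := pair_all i j hij
    exact ⟨T ⟨2 * p.val, by omega⟩, (Equiv.ext fun k => pairHom_T p k).trans hp⟩
  have h := flips.card_mul_index
  rw [Subgroup.index_ker, hsurj, card_C0_eq, Subgroup.card_top, Nat.card_eq_fintype_card (α := Equiv.Perm (Fin 6)),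
    Fintype.card_perm, Fintype.card_fin, show Nat.factorial 6 = 720 from rfl] at h
  omega

/-- The generators of the even flips. -/
def flipP (k : Fin 5) : Equiv.Perm (Fin 12) :=
  Equiv.swap (0 : Fin 12) 1 * Equiv.swap (Fin.ofNat 12 (2 * k.val + 2)) (Fin.ofNat 12 (2 * k.val + 3))

theorem flipP_facts : ∀ k, Equiv.Perm.sign (flipP k) = 1 ∧ flipP k * al = al * flipP k ∧
    ∀ i, pairFun (flipP k) i = i := by
  decide +kernel

/-- A generator of the even flips in the centralizer. -/
def flipC (k : Fin 5) : C0 := ⟨flipP k, mem_C0 (flipP_facts k).1 (flipP_facts k).2.1⟩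

theorem flipC_mem (k : Fin 5) : flipC k ∈ flips := Equiv.ext (flipP_facts k).2.2

theorem pairs_stay : ∀ i j : Fin 12,
    (∀ k, flipP k i = i ↔ flipP k j = j) → i.val / 2 = j.val / 2 := by
  decide +kernel

/-- The flips are their own centralizer. -/
theorem cent_flips : Subgroup.centralizer (flips : Set C0) ≤ flips := by
  intro c hc
  refine Equiv.ext fun i => Fin.ext ?_
  have h := pairs_stay (c.val (Fin.ofNat 12 (2 * i.val))) (Fin.ofNat 12 (2 * i.val)) fun k => by
    have hk : flipP k * c.val = c.val * flipP k :=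
      congrArg Subtype.val (Subgroup.mem_centralizer_iff.1 hc _ (flipC_mem k))
    rw [← Equiv.Perm.mul_apply, hk, Equiv.Perm.mul_apply, c.val.injective.eq_iff]
  change (Fin.ofNat 6 _).val = i.val
  rw [h, (pair_al 0).2.2, Fin.val_ofNat]
  omega

end Cfsg.Agent.AltTwelve.Fus
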