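import Cfsg.Agent.Lib.AltTwelve.Fus.Seven
import Cfsg.Agent.Lib.AltTwelve.Gen.Base

/-!
# Twenty-seven conjugates: an element turning the first four
-/

set_option autoImplicit false
set_option maxRecDepth 100000
set_option linter.unusedSectionVars false
set_option linter.style.haveILetI false

namespace Cfsg.Agent.AltTwelve.Fus

open Cfsg.Agent.AltTwelve.Sp

universe u

/-- The turn of the first component. -/
def om (x : Fin 64) : Fin 64 := Fin.ofNat 64 (x.val / 4 * 4 + (![0, 2, 3, 1] : Fin 4 → ℕ) (Fin.ofNat 4 x.val))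

/-- The exchange of two elements of the first component. -/
def tab (x : Fin 64) : Fin 64 := Fin.ofNat 64 (x.val / 4 * 4 + (![0, 2, 1, 3] : Fin 4 → ℕ) (Fin.ofNat 4 x.val))

/-- The linear extension of values at the basis. -/
def lin (v : Fin 6 → Fin 64) (x : Fin 64) : Fin 64 :=
  let t (i : Fin 6) : Fin 64 := bif x.val.testBit i.val then v i else 0
  ad (ad (ad (t 0) (t 1)) (ad (t 2) (t 3))) (ad (t 4) (t 5))

/-- The basis. -/
def bas : Fin 6 → Fin 64 := ![1, 2, 4, 8, 16, 32]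

theorem lin_bas : ∀ x, lin bas x = x := by decide +kernel

/-- The nine elements with one component. -/
def nine : Fin 9 → Fin 64 := ![1, 2, 3, 4, 8, 12, 16, 32, 48]

/-- The images of the units. -/
def unitImg : Fin 6 → Fin 3 → Fin 64 :=
  ![![2, 4, 16], ![2, 16, 4], ![4, 2, 16], ![4, 16, 2], ![16, 2, 4], ![16, 4, 2]]

theorem units_choice : ∀ i j k : Fin 9, ad (ad (nine i) (nine j)) (nine k) = 22 →
    (∀ l, ad (nine i) (nine j) ≠ nine l) → (∀ l, ad (nine i) (nine k) ≠ nine l) →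
    (∀ l, ad (nine j) (nine k) ≠ nine l) →
    ∃ σ, nine i = unitImg σ 0 ∧ nine j = unitImg σ 1 ∧ nine k = unitImg σ 2 := by
  decide +kernel

theorem mate_choice : ∀ σ : Fin 6, ∀ i : Fin 3, ∀ l : Fin 9, (∃ l', ad (unitImg σ i) (nine l) = nine l') →
    ∃ b : Bool, nine l = (bif b then
      (if unitImg σ i = 2 then 1 else Fin.ofNat 64 (2 * (unitImg σ i).val))
      else (if unitImg σ i = 2 then 3 else Fin.ofNat 64 (3 * (unitImg σ i).val))) := by
  decide +kernel

/-- The values at the basis of a candidate. -/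
def candVal (σ : Fin 6) (b : Fin 3 → Bool) : Fin 6 → Fin 64 :=
  let w (i : Fin 3) : Fin 64 := bif b i then
      (if unitImg σ i = 2 then 1 else Fin.ofNat 64 (2 * (unitImg σ i).val))
      else (if unitImg σ i = 2 then 3 else Fin.ofNat 64 (3 * (unitImg σ i).val))
  ![unitImg σ 0, w 0, unitImg σ 1, w 1, unitImg σ 2, w 2]

theorem reduce_table : ∀ σ : Fin 6, ∀ b : Fin 3 → Bool, ∃ s,
    (∀ k, lin (candVal σ b) (act s (bas k)) = om (bas k)) ∨
      (∀ k, lin (candVal σ b) (act s (bas k)) = tab (bas k)) := by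
  decide +kernel

theorem om_lin : (∀ x, om x = lin (fun k => om (bas k)) x) ∧ (∀ x, tab x = lin (fun k => tab (bas k)) x) ∧
    (∀ x, om (om (om x)) = x) ∧ (∀ x y, om (ad x y) = ad (om x) (om y)) := by
  decide +kernel

theorem tab_turn : ∃ s s', (∀ x, act s' (act s x) = x) ∧ ∀ x, act s (tab (act s' (tab x))) = om x := by
  decide +kernel

/-- The size of the support in terms of the conjugates. -/
theorem class_table : ∀ x : Fin 64, (eP x).support.card =
    if rCount (cand 120) x = 27 then 0 else if rCount (cand 120) x = 18 then 4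
      else if rCount (cand 120) x = 12 then 8 else 12 := by
  decide +kernel

theorem nine_table : (∀ x, rCount (cand 120) x = 18 ↔ ∃ i, nine i = x) ∧ cand 120 22 = true ∧
    (∀ l, ad 1 4 ≠ nine l) ∧ (∀ l, ad 1 16 ≠ nine l) ∧ (∀ l, ad 4 16 ≠ nine l) ∧
    ad (ad 1 4) 16 = 21 ∧ ad 1 2 = 3 ∧ ad 4 8 = 12 ∧ ad 16 32 = 48 := by
  decide +kernel

namespace Frame

variable {G : Type u} [Group G] [Finite G] {a : G} {ψ : C0 →* G} (D : Frame a ψ)
include D

/-- With twenty-seven conjugates the sizes of the supports separate the classes. -/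
theorem separate (h : ∀ x, fused a ψ x = cand 120 x) {c d : C0} (hc : c * c = 1) (hd : d * d = 1)
    (hcd : IsConj (ψ c) (ψ d)) : c.val.support.card = d.val.support.card := by
  classical
  obtain ⟨u, x, hx⟩ := exists_four hc
  obtain ⟨w, y, hy⟩ := exists_four hd
  have hxc : IsConj (ψ c) (ψ (e x)) := isConj_iff.2 ⟨ψ u, by rw [← map_inv, ← map_mul, ← map_mul, hx]⟩
  have hyd : IsConj (ψ d) (ψ (e y)) := isConj_iff.2 ⟨ψ w, by rw [← map_inv, ← map_mul, ← map_mul, hy]⟩
  obtain ⟨n, hn, hne⟩ := D.fusion (hxc.symm.trans (hcd.trans hyd))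
  obtain ⟨π, hπ, hadd, hfπ⟩ := D.exists_perm hn
  have hπx : π x = y := e_injective (D.inj ((hπ x).symm.trans hne))
  have hr : rCount (cand 120) y = rCount (cand 120) x := by
    rw [← funext h, ← hπx]
    refine (Finset.card_equiv π ?_).symm
    intro z
    simp only [Finset.mem_filter, Finset.mem_univ, true_and, hfπ, ← hadd]
  have hsupp : ∀ {p q : C0} {z : Fin 64}, p * q * p⁻¹ = e z → q.val.support.card = (eP z).support.card := by
    intro p q z hz
    have h' := congrArg Subtype.val hz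
    change p.val * q.val * p.val⁻¹ = eP z at h'
    rw [← h', Equiv.Perm.card_support_conj]
  rw [hsupp hx, hsupp hy, class_table, class_table, hr]

/-- An element turning the first component only. -/
theorem exists_turn (h : ∀ x, fused a ψ x = cand 120 x) :
    ∃ g : G, g ^ 3 = 1 ∧ ∀ x, g * ψ (e x) * g⁻¹ = ψ (e (om x)) := by
  classical
  obtain ⟨hn9, h22, n14, n116, n416, hsum, h3, h12, h48⟩ := nine_table
  obtain ⟨n₀, hn₀, hne₀⟩ := D.fusion (x := 21) (y := 22) (by
    rw [D.alpha']; exact fused_iff.1 ((h 22).trans h22))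
  obtain ⟨π, hπ, hadd, hfπ⟩ := D.exists_perm hn₀
  have h21 : π 21 = 22 := e_injective (D.inj ((hπ 21).symm.trans hne₀))
  have hr : ∀ x, rCount (cand 120) (π x) = rCount (cand 120) x := by
    intro x
    rw [← funext h]
    refine (Finset.card_equiv π ?_).symm
    intro z
    simp only [Finset.mem_filter, Finset.mem_univ, true_and, hfπ, ← hadd]
  have h9 : ∀ i, ∃ j, nine j = π (nine i) := fun i =>
    (hn9 _).1 ((hr _).trans ((hn9 _).2 ⟨i, rfl⟩))
  have h9' : ∀ {x}, (∀ l, x ≠ nine l) → ∀ l, π x ≠ nine l := fun {x} hx l e' => by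
    have := (hn9 _).2 ⟨l, e'.symm⟩
    rw [hr] at this
    obtain ⟨l', hl'⟩ := (hn9 _).1 this
    exact hx l' hl'.symm
  obtain ⟨i0, hi0⟩ := h9 0
  obtain ⟨i1, hi1⟩ := h9 3
  obtain ⟨i2, hi2⟩ := h9 6
  obtain ⟨σ, e0, e1, e2⟩ := units_choice i0 i1 i2
    (by rw [hi0, hi1, hi2, ← hadd, ← hadd]; exact (congrArg π hsum).trans h21)
    (by intro l; rw [hi0, hi1, ← hadd]; exact h9' n14 l)
    (by intro l; rw [hi0, hi2, ← hadd]; exact h9' n116 l)
    (by intro l; rw [hi1, hi2, ← hadd]; exact h9' n416 l)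
  obtain ⟨j0, hj0⟩ := h9 1
  obtain ⟨j1, hj1⟩ := h9 4
  obtain ⟨j2, hj2⟩ := h9 7
  obtain ⟨b0, eb0⟩ := mate_choice σ 0 j0
    (by obtain ⟨l, hl⟩ := h9 2; exact ⟨l, by rw [← e0, hi0, hj0, ← hadd, hl]; exact congrArg π h3⟩)
  obtain ⟨b1, eb1⟩ := mate_choice σ 1 j1
    (by obtain ⟨l, hl⟩ := h9 5; exact ⟨l, by rw [← e1, hi1, hj1, ← hadd, hl]; exact congrArg π h12⟩)
  obtain ⟨b2, eb2⟩ := mate_choice σ 2 j2
    (by obtain ⟨l, hl⟩ := h9 8; exact ⟨l, by rw [← e2, hi2, hj2, ← hadd, hl]; exact congrArg π h48⟩)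
  set b : Fin 3 → Bool := ![b0, b1, b2]
  have hbas : ∀ k, π (bas k) = candVal σ b k := by
    intro k
    fin_cases k
    exacts [hi0.symm.trans e0, hj0.symm.trans eb0, hi1.symm.trans e1, hj1.symm.trans eb1,
      hi2.symm.trans e2, hj2.symm.trans eb2]
  have hπ0 : π 0 = 0 := by
    have := hadd 0 0
    rwa [(ad_facts.1 0).1, (ad_facts.1 (π 0)).1] at this
  have hlin : ∀ x, π x = lin (candVal σ b) x := by
    intro x
    conv_lhs => rw [← lin_bas x]
    simp only [lin, hadd, Bool.apply_cond π, hπ0, hbas]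
  obtain ⟨s, hs⟩ := reduce_table σ b
  have hcomp : ∀ z, n₀ * ψ (sC s) * ψ (e z) * (n₀ * ψ (sC s))⁻¹ = ψ (e (π (act s z))) := by
    intro z
    rw [← hπ, ← sC_conj, map_mul, map_mul, map_inv]
    group
  obtain ⟨π', hπ', hadd', -⟩ := D.exists_perm (n := n₀ * ψ (sC s)) fun z => ⟨_, hcomp z⟩
  have hππ : ∀ z, π' z = π (act s z) := fun z => e_injective (D.inj ((hπ' z).symm.trans (hcomp z)))
  have hπ'0 : π' 0 = 0 := by
    have := hadd' 0 0
    rwa [(ad_facts.1 0).1, (ad_facts.1 (π' 0)).1] at this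
  have hlin' : ∀ x, π' x = lin (fun k => π (act s (bas k))) x := by
    intro x
    conv_lhs => rw [← lin_bas x]
    simp only [lin, hadd', Bool.apply_cond π', hπ'0, hππ (bas _)]
  obtain ⟨n, hn⟩ : ∃ n : G, ∀ x, n * ψ (e x) * n⁻¹ = ψ (e (om x)) := by
    rcases hs with hs | hs
    · refine ⟨_, fun x => (hcomp x).trans ?_⟩
      rw [← hππ, hlin', om_lin.1 x]
      simp only [hlin, hs]
    · obtain ⟨t, t', -, ht⟩ := tab_turn
      have hT : ∀ x, n₀ * ψ (sC s) * ψ (e x) * (n₀ * ψ (sC s))⁻¹ = ψ (e (tab x)) := fun x => by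
        rw [hcomp, ← hππ, hlin', om_lin.2.1 x]
        simp only [hlin, hs]
      refine ⟨ψ (sC t) * (n₀ * ψ (sC s)) * ψ (sC t') * (n₀ * ψ (sC s)), fun x => ?_⟩
      rw [← ht, ← sC_conj, map_mul, map_mul, map_inv, ← hT, ← sC_conj, map_mul, map_mul, map_inv, ← hT]
      group
  have h3' : ∀ x, Commute (n ^ 3) (ψ (e x)) := by
    intro x
    refine mul_inv_eq_iff_eq_mul.1 ?_
    calc n ^ 3 * ψ (e x) * (n ^ 3)⁻¹ = n * (n * (n * ψ (e x) * n⁻¹) * n⁻¹) * n⁻¹ := by
          rw [pow_succ, pow_two, mul_inv_rev, mul_inv_rev]; group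
      _ = ψ (e x) := by rw [hn, hn, hn, om_lin.2.2.1]
  refine ⟨n ^ 4, ?_, fun x => ?_⟩
  · obtain ⟨v, hv⟩ := D.cent_all h3'
    rw [← pow_mul, show 4 * 3 = 3 * (2 * 2) by norm_num, pow_mul, pow_mul, hv, pow_two (ψ (e v)), ← map_mul,
      e_sq, map_one, one_pow]
  · calc n ^ 4 * ψ (e x) * (n ^ 4)⁻¹ = n * (n ^ 3 * ψ (e x) * (n ^ 3)⁻¹) * n⁻¹ := by group
      _ = ψ (e (om x)) := by rw [(h3' x).eq, mul_inv_cancel_right, hn]

end Frame

end Cfsg.Agent.AltTwelve.Fus
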