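import Cfsg.Agent.Lib.AltTwelve.Fus.Facts

/-!
# The conjugates of the involution among the three fours
-/

set_option autoImplicit false
set_option maxRecDepth 100000
set_option linter.unusedSectionVars false
set_option linter.style.haveILetI false

namespace Cfsg.Agent.AltTwelve.Fus

open Cfsg.Agent.AltTwelve.Sp

universe u

/-- The representatives of the orbits of the permutations of the fours. -/
def orbRep : Fin 11 → Fin 64 := ![0, 1, 5, 21, 2, 6, 10, 22, 26, 42, 43]

/-- The orbit of an element. -/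
def orb (x : Fin 64) : Fin 11 := Fin.ofNat 11 (ent orbTab 4 x.val)

theorem orb_spec : ∀ x, act (Fin.ofNat 24 (ent orbEl 5 x.val)) (orbRep (orb x)) = x := by decide +kernel

/-- The candidate with the given choice of the seven free orbits. -/
def cand (m : Fin 128) (x : Fin 64) : Bool := (orb x).val == 3 || (4 ≤ (orb x).val && m.val.testBit ((orb x).val - 4))

/-- The number of pairs inside with a given sum. -/
def rCount (f : Fin 64 → Bool) (y : Fin 64) : ℕ :=
  (Finset.univ.filter fun z => f z = true ∧ f (ad y z) = true).card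

/-- The number of triples inside with a given sum. -/
def qCount (f : Fin 64 → Bool) (y : Fin 64) : ℕ := ∑ x : Fin 64, if f x = true then rCount f (ad y x) else 0

/-- The witness against a candidate. -/
def witY (m : Fin 128) : Bool × Fin 64 := (ent witK 7 m.val % 2 == 1, Fin.ofNat 64 (ent witK 7 m.val / 2))

theorem survivors : ∀ m : Fin 128, m.val = 0 ∨ m.val = 1 ∨ m.val = 8 ∨ m.val = 113 ∨ m.val = 120 ∨
    (cand m (witY m).2 = true ∧
      if (witY m).1 then qCount (cand m) (witY m).2 ≠ qCount (cand m) 21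
      else rCount (cand m) (witY m).2 ≠ rCount (cand m) 21) := by
  decide +kernel

/-- The conjugates of the involution. -/
noncomputable def fused {G : Type u} [Group G] (a : G) (ψ : C0 →* G) (x : Fin 64) : Bool :=
  @decide (IsConj a (ψ (e x))) (Classical.propDecidable _)

theorem fused_iff {G : Type u} [Group G] {a : G} {ψ : C0 →* G} {x : Fin 64} :
    fused a ψ x = true ↔ IsConj a (ψ (e x)) := by
  simp [fused]

namespace Frame

variable {G : Type u} [Group G] [Finite G] {a : G} {ψ : C0 →* G} (D : Frame a ψ)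
include D

theorem alpha' : ψ (e 21) = a := by rw [e_alpha, D.alpha]

theorem fused_self : fused a ψ 21 = true := by rw [fused_iff, D.alpha']

theorem fused_zero : fused a ψ 0 = false := by
  rw [Bool.eq_false_iff, Ne, fused_iff, e_zero, map_one, isConj_one_left, ← D.alpha']
  intro h
  exact absurd (e_injective ((D.inj (h.trans (map_one ψ).symm)).trans e_zero.symm)) (by decide)

theorem fused_act (s : Fin 24) (x : Fin 64) : fused a ψ (act s x) = fused a ψ x := by
  rw [Bool.eq_iff_iff, fused_iff, fused_iff]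
  have h : IsConj (ψ (e x)) (ψ (e (act s x))) :=
    isConj_iff.2 ⟨ψ (sC s), by rw [← map_inv, ← map_mul, ← map_mul, sC_conj]⟩
  exact ⟨fun h' => h'.trans h.symm, fun h' => h'.trans h⟩

/-- Squares central in the Sylow subgroup are not conjugates of the involution. -/
theorem fused_square {y : Fin 64} (hy : y = 5 ∨ y = 16) : fused a ψ y = false := by
  haveI : Fact (Nat.Prime 2) := ⟨Nat.prime_two⟩
  rw [Bool.eq_false_iff, Ne, fused_iff]
  intro h
  obtain ⟨P, hP⟩ := D.exists_sylow
  have hcen : ∀ {z : Fin 64}, z = 5 ∨ z = 16 ∨ z = 21 →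
      ψ (e z) ∈ Subgroup.centralizer ((P : Subgroup G) : Set G) := by
    intro z hz
    rw [hP]
    refine Subgroup.mem_centralizer_iff.2 ?_
    rintro _ ⟨c, hc, rfl⟩
    exact ((central_sylC hz hc).map ψ).symm.eq
  obtain ⟨g, hg⟩ := isConj_iff.1 h
  rw [← D.alpha'] at hg
  have hy' : y = 5 ∨ y = 16 ∨ y = 21 := by rcases hy with h | h; exacts [Or.inl h, Or.inr (Or.inl h)]
  obtain ⟨n, hn, hne⟩ := P.conj_eq_normalizer_conj_of_mem_centralizer (ψ (e 21)) g⁻¹
    (hcen (Or.inr (Or.inr rfl))) (by rw [inv_inv, hg]; exact hcen hy')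
  rw [inv_inv, hg] at hne
  obtain ⟨c, hc, hcy⟩ := exists_square hy
  have hm : n * ψ c * n⁻¹ ∈ (P : Subgroup G) :=
    (Subgroup.mem_normalizer_iff.1 hn _).1 (by rw [hP]; exact Subgroup.mem_map.2 ⟨c, hc, rfl⟩)
  rw [hP] at hm
  obtain ⟨c', hc', hce⟩ := Subgroup.mem_map.1 hm
  refine alpha_not_square hc' (D.inj ?_)
  rw [map_mul, hce, ← e_alpha, show n * ψ c * n⁻¹ * (n * ψ c * n⁻¹) = n * (ψ c * ψ c) * n⁻¹ by group,
    ← map_mul, hcy, hne]
  group

/-- An automorphism of the three fours realised in the group. -/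
theorem exists_perm {n : G} (h : ∀ z, ∃ w, n * ψ (e z) * n⁻¹ = ψ (e w)) :
    ∃ π : Equiv.Perm (Fin 64), (∀ z, n * ψ (e z) * n⁻¹ = ψ (e (π z))) ∧
      (∀ x y, π (ad x y) = ad (π x) (π y)) ∧ ∀ x, fused a ψ (π x) = fused a ψ x := by
  choose w hw using h
  have hinj : Function.Injective w := fun x y e' => e_injective (D.inj (by
    have : n * ψ (e x) * n⁻¹ = n * ψ (e y) * n⁻¹ := by rw [hw, hw, e']
    simpa using this))
  refine ⟨Equiv.ofBijective w (Finite.injective_iff_bijective.1 hinj), hw, fun x y => ?_, fun x => ?_⟩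
  · refine e_injective (D.inj ?_)
    change ψ (e (w (ad x y))) = ψ (e (ad (w x) (w y)))
    rw [← hw, ← e_mul, ← e_mul, map_mul, map_mul, ← hw, ← hw]
    group
  · change fused a ψ (w x) = fused a ψ x
    rw [Bool.eq_iff_iff, fused_iff, fused_iff]
    have h : IsConj (ψ (e x)) (ψ (e (w x))) := isConj_iff.2 ⟨n, hw x⟩
    exact ⟨fun h' => h'.trans h.symm, fun h' => h'.trans h⟩

/-- The five possible sets of conjugates. -/
theorem fused_cases : ∃ m : Fin 128, (m.val = 0 ∨ m.val = 1 ∨ m.val = 8 ∨ m.val = 113 ∨ m.val = 120) ∧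
    ∀ x, fused a ψ x = cand m x := by
  classical
  set f := fused a ψ with hf
  let b : Fin 7 → Bool := fun i => f (orbRep ⟨i.val + 4, by omega⟩)
  obtain ⟨m, hm⟩ : ∃ m : Fin 128, ∀ i : Fin 7, m.val.testBit i.val = b i :=
    (show ∀ b : Fin 7 → Bool, ∃ m : Fin 128, ∀ i : Fin 7, m.val.testBit i.val = b i by decide +kernel) b
  have hcand : ∀ x, f x = cand m x := by
    intro x
    conv_lhs => rw [← orb_spec x, hf, D.fused_act]
    have key : ∀ o : Fin 11, f (orbRep o) = (o.val == 3 || (4 ≤ o.val && m.val.testBit (o.val - 4))) := by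
      intro o
      rcases (show ∀ o : Fin 11, o = 0 ∨ o = 1 ∨ o = 2 ∨ o = 3 ∨ ∃ i : Fin 7, o.val = i.val + 4 by decide) o with
        rfl | rfl | rfl | rfl | ⟨i, hi⟩
      · exact D.fused_zero
      · obtain ⟨s, hs⟩ : ∃ s, act s 16 = 1 := by decide +kernel
        change fused a ψ 1 = false
        rw [← hs, D.fused_act, D.fused_square (Or.inr rfl)]
      · exact D.fused_square (Or.inl rfl)
      · exact D.fused_self
      · rw [show o = ⟨i.val + 4, by omega⟩ from Fin.ext hi]
        change b i = _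
        rw [← hm i]
        simp
    exact key (orb x)
  refine ⟨m, ?_, hcand⟩
  rcases survivors m with h | h | h | h | h | ⟨hy, hw⟩
  · exact Or.inl h
  · exact Or.inr (Or.inl h)
  · exact Or.inr (Or.inr (Or.inl h))
  · exact Or.inr (Or.inr (Or.inr (Or.inl h)))
  · exact Or.inr (Or.inr (Or.inr (Or.inr h)))
  exfalso
  rw [show cand m = f from (funext hcand).symm] at hy hw
  obtain ⟨n, hn, hne⟩ := D.fusion (x := 21) (y := (witY m).2) (by rw [D.alpha']; exact fused_iff.1 hy)
  obtain ⟨π, hπ, hadd, hfπ⟩ := D.exists_perm hn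
  have hπ21 : π 21 = (witY m).2 := e_injective (D.inj ((hπ 21).symm.trans hne))
  have hr : ∀ y, rCount f (π y) = rCount f y := by
    intro y
    refine (Finset.card_equiv π ?_).symm
    intro z
    simp only [Finset.mem_filter, Finset.mem_univ, true_and, hfπ, ← hadd, hf]
  have hq : qCount f (π 21) = qCount f 21 := by
    rw [qCount, qCount]
    refine (Fintype.sum_equiv π _ _ fun x => ?_).symm
    rw [← hadd, hr, hf, hfπ]
  rw [hπ21] at hq
  split at hw
  · exact hw hq
  · exact hw (hπ21 ▸ hr 21)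

end Frame

end Cfsg.Agent.AltTwelve.Fus
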