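import Cfsg.Agent.Lib.AltTwelve.Fus.Orbit
import Cfsg.Agent.Lib.AltTwelve.Sp.Branch

/-!
# Seven conjugates: an element of order three on a line
-/

set_option autoImplicit false
set_option maxRecDepth 100000
set_option linter.unusedSectionVars false
set_option linter.style.haveILetI false

namespace Cfsg.Agent.AltTwelve.Fus

open Cfsg.Agent.AltTwelve.Sp

universe u

/-- The seven conjugates. -/
def pts : Fin 7 → Fin 64 := ![21, 2, 3, 8, 12, 32, 48]

/-- The number of a conjugate. -/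
def idx (x : Fin 64) : Fin 7 :=
  if x = 2 then 1 else if x = 3 then 2 else if x = 8 then 3 else if x = 12 then 4 else if x = 32 then 5
  else if x = 48 then 6 else 0

/-- The action on the seven. -/
def act7 (s : Fin 24) (i : Fin 7) : Fin 7 := idx (act s (pts i))

/-- Two of the six in one block. -/
def mate (i j : Fin 7) : Bool :=
  (i.val + 1) / 2 == (j.val + 1) / 2 && i.val != j.val && i.val != 0 && j.val != 0

theorem seven_facts : (∀ x, cand 1 x = true ↔ ∃ i, pts i = x) ∧ (∀ i, idx (pts i) = i) ∧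
    (∀ s i, pts (act7 s i) = act s (pts i)) ∧ (∀ s, act7 s 0 = 0) ∧
    (∀ i j, mate i j = true ↔ (eP (ad (pts i) (pts j))).support.card = 4) ∧
    (∀ i : Fin 7, i ≠ 0 → ∃ t, act7 t 1 = i) := by
  decide +kernel

/-- The compatibility with the blocks of the stabilizer of the conjugate mapped to the involution. -/
def compatible (p : Fin 7 → Fin 7) : Prop :=
  ∀ s z, p z = 0 → act7 s z = z → ∀ u v, mate (p u) (p v) = true → mate (p (act7 s u)) (p (act7 s v)) = true

theorem search : ∀ a : Fin 7, ∀ b : Fin 7, ∀ c : Fin 7, ∀ d : Fin 7, ∀ f : Fin 7,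
    a = 1 ∨ a = 2 ∨ b = 1 ∨ b = 2 ∨ c = 1 ∨ c = 2 ∨ d = 1 ∨ d = 2 ∨ f = 1 ∨ f = 2 ∨ a = b ∨ a = c ∨ a = d ∨
      a = f ∨ b = c ∨ b = d ∨ b = f ∨ c = d ∨ c = f ∨ d = f ∨
    (∃ s z, ![1, 2, a, b, c, d, f] z = 0 ∧ act7 s z = z ∧ ∃ u v, mate (![1, 2, a, b, c, d, f] u) (![1, 2, a, b, c, d, f] v) = true ∧
      mate (![1, 2, a, b, c, d, f] (act7 s u)) (![1, 2, a, b, c, d, f] (act7 s v)) = false) ∨
    ∃ s t, act7 s (![1, 2, a, b, c, d, f] (act7 t 0)) = 1 ∧ act7 s (![1, 2, a, b, c, d, f] (act7 t 1)) = 2 ∧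
      act7 s (![1, 2, a, b, c, d, f] (act7 t 2)) = 0 ∧ act7 s (![1, 2, a, b, c, d, f] (act7 t 3)) = 3 := by
  decide +kernel

theorem cube_six : ∀ σ : Fin 7 → Fin 7, σ 0 = 1 → σ 1 = 2 → σ 2 = 0 → σ 3 = 3 → Function.Injective σ →
    ∀ i, σ (σ (σ (σ (σ (σ i))))) = i := by
  intro σ h0 h1 h2 h3 hinj
  have key : ∀ a b c : Fin 7, (3 < a.val ∧ 3 < b.val ∧ 3 < c.val) → a ≠ b → a ≠ c → b ≠ c →
      ∀ i, ![1, 2, 0, 3, a, b, c] (![1, 2, 0, 3, a, b, c] (![1, 2, 0, 3, a, b, c]
        (![1, 2, 0, 3, a, b, c] (![1, 2, 0, 3, a, b, c] (![1, 2, 0, 3, a, b, c] i))))) = i := by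
    decide +kernel
  have hσ : σ = ![1, 2, 0, 3, σ 4, σ 5, σ 6] := by
    funext i
    fin_cases i
    exacts [h0, h1, h2, h3, rfl, rfl, rfl]
  have hgt : ∀ j : Fin 7, 3 < j.val → 3 < (σ j).val := by
    intro j hj
    by_contra hle
    rcases (show ∀ k : Fin 7, ¬ 3 < k.val → k = 0 ∨ k = 1 ∨ k = 2 ∨ k = 3 by decide) _ hle with e' | e' | e' | e'
    · have := hinj (e'.trans h2.symm)
      subst this
      exact absurd hj (by decide)
    · have := hinj (e'.trans h0.symm)
      subst this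
      exact absurd hj (by decide)
    · have := hinj (e'.trans h1.symm)
      subst this
      exact absurd hj (by decide)
    · have := hinj (e'.trans h3.symm)
      subst this
      exact absurd hj (by decide)
  intro i
  rw [hσ]
  exact key _ _ _ ⟨hgt 4 (by decide), hgt 5 (by decide), hgt 6 (by decide)⟩
    (fun e' => absurd (hinj e') (by decide)) (fun e' => absurd (hinj e') (by decide))
    (fun e' => absurd (hinj e') (by decide)) i

theorem span_seven : ∀ x : Fin 64, ∃ b : Fin 6 → Bool,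
    x = ad (ad (ad (bif b 0 then 2 else 0) (bif b 1 then 3 else 0)) (ad (bif b 2 then 8 else 0) (bif b 3 then 12 else 0)))
      (ad (bif b 4 then 32 else 0) (bif b 5 then 48 else 0)) := by
  decide +kernel

theorem T_of_pair : ∀ x y : Fin 12, y.val / 2 ≠ x.val / 2 → ∃ i, ∀ j,
    Equiv.swap x y (Equiv.swap (al x) (al y) j) = tP i j := by
  decide +kernel

theorem T_shape : ∀ i : Fin 30, ∃ x y : Fin 12, y.val / 2 ≠ x.val / 2 ∧ ∀ j,
    Equiv.swap x y (Equiv.swap (al x) (al y) j) = tP i j := by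
  decide +kernel

/-- The thirty lifts are closed under conjugation. -/
theorem T_closed (h : C0) (i : Fin 30) : ∃ k, h * T i * h⁻¹ = T k := by
  obtain ⟨x, y, hxy, hi⟩ := T_shape i
  have hcomm : ∀ z, h.val (al z) = al (h.val z) := fun z =>
    Equiv.Perm.ext_iff.1 (Subgroup.mem_centralizer_singleton_iff.1 h.2.2) z
  have hne : (h.val y).val / 2 ≠ (h.val x).val / 2 := by
    intro e'
    rcases (show ∀ a b : Fin 12, a.val / 2 = b.val / 2 → a = b ∨ a = al b by decide +kernel) _ _ e' with e | e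
    · exact hxy (by rw [h.val.injective e])
    · rw [← hcomm] at e
      exact hxy (by rw [h.val.injective e, (pair_al x).1])
  obtain ⟨k, hk⟩ := T_of_pair _ _ hne
  refine ⟨k, Subtype.ext ?_⟩
  change h.val * tP i * h.val⁻¹ = tP k
  rw [show tP i = Equiv.swap x y * Equiv.swap (al x) (al y) from (Equiv.ext hi).symm,
    show tP k = Equiv.swap (h.val x) (h.val y) * Equiv.swap (al (h.val x)) (al (h.val y)) from (Equiv.ext hk).symm,
    ← hcomm, ← hcomm, show h.val * (Equiv.swap x y * Equiv.swap (al x) (al y)) * h.val⁻¹ =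
      h.val * Equiv.swap x y * h.val⁻¹ * (h.val * Equiv.swap (al x) (al y) * h.val⁻¹) by group,
    ← Equiv.swap_apply_apply, ← Equiv.swap_apply_apply]

theorem eight_T : ∀ i : Fin 7, i ≠ 0 → ∃ k, ∀ j, eP (pts i) j = tP k j := by decide +kernel

namespace Frame

variable {G : Type u} [Group G] [Finite G] {a : G} {ψ : C0 →* G} (D : Frame a ψ)
include D

/-- An element commuting with the three fours in the group squares to one. -/
theorem cent_all {n : G} (h : ∀ x, Commute n (ψ (e x))) : ∃ x, n = ψ (e x) := by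
  have hn : n ∈ ψ.range := D.range ▸ Subgroup.mem_centralizer_singleton_iff.2 (D.alpha' ▸ h 21).eq
  obtain ⟨c, rfl⟩ := hn
  obtain ⟨x, hx⟩ := cent_fours (σ := c.val) fun x => congrArg Subtype.val
    (D.inj (by rw [map_mul, map_mul]; exact (h x).eq) : c * e x = e x * c)
  exact ⟨x, by rw [show c = e x from Subtype.ext hx]⟩

/-- The branch with seven conjugates. -/
theorem seven (h7 : ∀ x, fused a ψ x = cand 1 x) :
    ∃ (F : Type) (_ : Field F) (_ : Fintype F), Fintype.card F = 2 ∧ Nonempty (G ≃* Cfsg.PSp 3 F) := by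
  obtain ⟨hmem, hidx, hact, hact0, hmate, hmove⟩ := seven_facts
  have hfus : ∀ i, fused a ψ (pts i) = true := fun i => (h7 _).trans ((hmem _).2 ⟨i, rfl⟩)
  obtain ⟨n₀, hn₀, hne₀⟩ := D.fusion (x := 21) (y := 2) (by rw [D.alpha']; exact fused_iff.1 (hfus 1))
  obtain ⟨π₀, hπ₀, -, hfπ₀⟩ := D.exists_perm hn₀
  have h21 : π₀ 21 = 2 := e_injective (D.inj ((hπ₀ 21).symm.trans hne₀))
  have hpts : ∀ {π : Equiv.Perm (Fin 64)}, (∀ x, fused a ψ (π x) = fused a ψ x) →
      ∀ i, pts (idx (π (pts i))) = π (pts i) := by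
    intro π hπ i
    obtain ⟨j, hj⟩ := (hmem _).1 ((h7 _).symm.trans ((hπ _).trans (hfus i)))
    rw [← hj, hidx]
  obtain ⟨i₁, hi₁⟩ : ∃ i₁, π₀ (pts i₁) = 3 := by
    obtain ⟨i₁, hi₁⟩ := (hmem (π₀.symm 3)).1 (by
      rw [← h7, ← hfπ₀, Equiv.apply_symm_apply]
      exact hfus 2)
    exact ⟨i₁, by rw [hi₁, Equiv.apply_symm_apply]⟩
  have hi10 : i₁ ≠ 0 := by
    intro e'
    rw [e'] at hi₁
    exact absurd (hi₁.symm.trans h21) (by decide)
  obtain ⟨t, ht⟩ := hmove i₁ hi10
  set n := n₀ * ψ (sC t) with hn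
  have hnact : ∀ z, n * ψ (e z) * n⁻¹ = ψ (e (π₀ (act t z))) := by
    intro z
    rw [hn, ← hπ₀, ← sC_conj, map_mul, map_mul, map_inv]
    group
  obtain ⟨π, hπ, hadd, hfπ⟩ := D.exists_perm (n := n) fun z => ⟨_, hnact z⟩
  have hππ : ∀ z, π z = π₀ (act t z) := fun z => e_injective (D.inj ((hπ z).symm.trans (hnact z)))
  set p : Fin 7 → Fin 7 := fun i => idx (π (pts i)) with hp
  have hpp : ∀ i, pts (p i) = π (pts i) := hpts hfπ
  have hpinj : Function.Injective p := fun i j e' => by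
    rw [← hidx i, ← hidx j]
    exact congrArg idx (π.injective (by rw [← hpp, ← hpp, e']))
  have hp0 : p 0 = 1 := by
    rw [hp]; dsimp only
    rw [hππ, ← hact, hact0, show pts 0 = 21 from rfl, h21]
    decide
  have hp1 : p 1 = 2 := by
    rw [hp]; dsimp only
    rw [hππ, ← hact, ht, hi₁]
    decide
  have hcompat : ∀ s z, p z = 0 → act7 s z = z → ∀ u v, mate (p u) (p v) = true →
      mate (p (act7 s u)) (p (act7 s v)) = true := by
    intro s z hz hsz u v huv
    have hcomm : Commute (n * ψ (sC s) * n⁻¹) a := by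
      have h1 : ψ (e (π (pts z))) = a := by rw [← hpp, hz]; exact D.alpha'
      have h2 : sC s * e (pts z) * (sC s)⁻¹ = e (pts z) := by rw [sC_conj, ← hact, hsz]
      rw [← h1, ← hπ, Commute, SemiconjBy]
      calc n * ψ (sC s) * n⁻¹ * (n * ψ (e (pts z)) * n⁻¹) = n * ψ (sC s * e (pts z) * (sC s)⁻¹ * sC s) * n⁻¹ := by
            rw [map_mul, map_mul, map_mul, map_inv]; group
        _ = n * ψ (e (pts z)) * n⁻¹ * (n * ψ (sC s) * n⁻¹) := by rw [h2, map_mul]; group
    obtain ⟨c, hc⟩ : n * ψ (sC s) * n⁻¹ ∈ ψ.range :=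
      D.range ▸ Subgroup.mem_centralizer_singleton_iff.2 hcomm.eq
    have key : ∀ x, c * e (π x) * c⁻¹ = e (π (act s x)) := by
      intro x
      refine D.inj ?_
      rw [map_mul, map_mul, map_inv, hc, ← hπ, ← hπ, ← sC_conj, map_mul, map_mul, map_inv]
      group
    rw [hmate, hpp, hpp, hact, hact, ← hadd]
    rw [hmate, hpp, hpp, ← hadd] at huv
    rw [show ad (act s (pts u)) (act s (pts v)) = act s (ad (pts u) (pts v)) from e_injective (by
      rw [← sC_conj, ← e_mul, ← e_mul, ← sC_conj, ← sC_conj]; group)]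
    have hv := congrArg Subtype.val (key (ad (pts u) (pts v)))
    change c.val * eP (π (ad (pts u) (pts v))) * c.val⁻¹ = eP (π (act s (ad (pts u) (pts v)))) at hv
    rw [← hv, Equiv.Perm.card_support_conj]
    exact huv
  have hsix : ∀ i j, i ≠ j → p i ≠ p j := fun i j h e' => h (hpinj e')
  have hvec : p = ![1, 2, p 2, p 3, p 4, p 5, p 6] := by
    funext i
    fin_cases i
    exacts [hp0, hp1, rfl, rfl, rfl, rfl, rfl]
  obtain ⟨s, t', m0, m1, m2, m3⟩ : ∃ s t', act7 s (p (act7 t' 0)) = 1 ∧ act7 s (p (act7 t' 1)) = 2 ∧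
      act7 s (p (act7 t' 2)) = 0 ∧ act7 s (p (act7 t' 3)) = 3 := by
    have n0 : ∀ i, i ≠ 0 → p i ≠ 1 := fun i h => hp0 ▸ hsix i 0 h
    have n1 : ∀ i, i ≠ 1 → p i ≠ 2 := fun i h => hp1 ▸ hsix i 1 h
    have ns := search (p 2) (p 3) (p 4) (p 5) (p 6)
    simp only [n0 2 (by decide), n0 3 (by decide), n0 4 (by decide), n0 5 (by decide), n0 6 (by decide),
      n1 2 (by decide), n1 3 (by decide), n1 4 (by decide), n1 5 (by decide), n1 6 (by decide),
      hsix 2 3 (by decide), hsix 2 4 (by decide), hsix 2 5 (by decide), hsix 2 6 (by decide),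
      hsix 3 4 (by decide), hsix 3 5 (by decide), hsix 3 6 (by decide), hsix 4 5 (by decide),
      hsix 4 6 (by decide), hsix 5 6 (by decide), false_or] at ns
    rw [← hvec] at ns
    rcases ns with ⟨s, z, h1, h2, u, v, h3, h4⟩ | h
    · rw [hcompat s z h1 h2 u v h3] at h4
      exact absurd h4 (by decide)
    · exact h
  set m := ψ (sC s) * n * ψ (sC t') with hm
  set σ : Fin 7 → Fin 7 := fun i => act7 s (p (act7 t' i)) with hσ
  have hmσ : ∀ i, m * ψ (e (pts i)) * m⁻¹ = ψ (e (pts (σ i))) := by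
    intro i
    rw [hσ]; dsimp only
    rw [hact, hpp, hact, ← sC_conj, map_mul, map_mul, map_inv, ← hπ, ← sC_conj, map_mul, map_mul, map_inv, hm]
    group
  have hσinj : Function.Injective σ := fun i j e' => by
    have : ψ (e (pts i)) = ψ (e (pts j)) := by
      have h := (hmσ i).trans ((congrArg (fun k => ψ (e (pts k))) e').trans (hmσ j).symm)
      simpa using h
    rw [← hidx i, ← hidx j, e_injective (D.inj this)]
  have h6 := cube_six σ m0 m1 m2 m3 hσinj
  have hpow : ∀ k i, m ^ k * ψ (e (pts i)) * (m ^ k)⁻¹ = ψ (e (pts (σ^[k] i))) := by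
    intro k
    induction k with
    | zero => intro i; simp
    | succ k ih =>
      intro i
      rw [Function.iterate_succ_apply', ← hmσ, ← ih, pow_succ']
      group
  have h12 : m ^ 12 = 1 := by
    obtain ⟨x, hx⟩ := D.cent_all (n := m ^ 6) fun x => by
      obtain ⟨b, hb⟩ := span_seven x
      have hk : ∀ i, Commute (m ^ 6) (ψ (e (pts i))) := fun i =>
        mul_inv_eq_iff_eq_mul.1 ((hpow 6 i).trans (by rw [show σ^[6] i = i from h6 i]))
      have hor : ∀ (bb : Bool) (i : Fin 7), Commute (m ^ 6) (ψ (e (bif bb then pts i else 0))) := by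
        intro bb i
        cases bb
        · rw [cond_false, e_zero, map_one]; exact Commute.one_right _
        · exact hk i
      rw [hb, ← e_mul, ← e_mul, ← e_mul, ← e_mul, ← e_mul, map_mul, map_mul, map_mul, map_mul, map_mul]
      exact (((hor (b 0) 1).mul_right (hor (b 1) 2)).mul_right ((hor (b 2) 3).mul_right (hor (b 3) 4))).mul_right
        ((hor (b 4) 5).mul_right (hor (b 5) 6))
    rw [show 12 = 6 * 2 by norm_num, pow_mul, hx, pow_two, ← map_mul, e_sq, map_one]
  have h4 : ∀ i, m ^ 4 * ψ (e (pts i)) * (m ^ 4)⁻¹ = ψ (e (pts (σ (σ (σ (σ i)))))) := hpow 4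
  obtain ⟨eT0, eT1, eT18⟩ := e_T
  refine sp_branch a ψ D.inj D.range D.alpha ?_ (m ^ 4) (by rw [← pow_mul]; exact h12) ?_ ?_ ?_
  · intro c hc
    have hc2 : c * c = 1 := D.inj (by
      obtain ⟨x, hx⟩ := isConj_iff.1 hc
      rw [map_mul, map_one, ← hx, show x * a * x⁻¹ * (x * a * x⁻¹) = x * (a * a) * x⁻¹ by group, ← D.alpha',
        ← map_mul, e_sq, map_one, mul_one, mul_inv_cancel])
    obtain ⟨h, x, hx⟩ := exists_four hc2
    have hfx : fused a ψ x = true :=
      fused_iff.2 (hc.trans (isConj_iff.2 ⟨ψ h, by rw [← map_inv, ← map_mul, ← map_mul, hx]⟩))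
    obtain ⟨i, rfl⟩ := (hmem x).1 ((h7 x).symm.trans hfx)
    have hc' : c = h⁻¹ * e (pts i) * h := by rw [← hx]; group
    by_cases hi : i = 0
    · left
      rw [hc', hi, show pts 0 = 21 from rfl, e_alpha, mul_assoc, ← (alC_central h).eq, inv_mul_cancel_left]
    · right
      obtain ⟨k, hk⟩ := eight_T i hi
      obtain ⟨k', hk'⟩ := T_closed h⁻¹ k
      exact ⟨k', by rw [hc', show e (pts i) = T k from Subtype.ext (Equiv.ext hk), ← hk', inv_inv]⟩
  · have h := h4 0
    rw [show σ (σ (σ (σ 0))) = 1 by rw [hσ] at *; simp only [m0, m1, m2]] at h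
    rw [← eT0, ← D.alpha']
    exact h
  · have h := h4 1
    rw [show σ (σ (σ (σ 1))) = 2 by rw [hσ] at *; simp only [m0, m1, m2]] at h
    rw [← eT0, ← eT1]
    exact h
  · have h := h4 3
    rw [show σ (σ (σ (σ 3))) = 3 by rw [hσ] at *; simp only [m3]] at h
    rw [← eT18]
    exact h

end Frame

end Cfsg.Agent.AltTwelve.Fus
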