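import Cfsg.Agent.Lib.AltTwelve.Fus.Model
import Cfsg.Agent.Lib.Transfer.Fusion

/-!
# The fixed Sylow subgroup and the fusion in the three fours
-/

set_option autoImplicit false
set_option maxRecDepth 100000
set_option linter.unusedSectionVars false
set_option linter.style.haveILetI false

namespace Cfsg.Agent.AltTwelve.Fus

open Cfsg.Agent.AltTwelve.Sp

universe u

theorem d_facts : (∀ c : Fin 8, ∃ d, dmul c d = 0 ∧ dmul d c = 0) ∧
    (∀ (d : Fin 8) (x : Fin 64), dP d 0 = eP x 0 → dP d 2 = eP x 2 → dP d 6 = eP x 6 →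
      dP d 10 = eP x 10 → dP d 4 = eP x 4 → dP d 8 = eP x 8 → d = 0) ∧
    (∀ d : Fin 8, dact d 0 = 0) ∧ (∀ (d : Fin 8), dact d 5 = 5 ∧ dact d 16 = 16 ∧ dact d 21 = 21) := by
  decide +kernel

theorem dmul_facts : (∀ c : Fin 8, dmul c 0 = c ∧ dmul 0 c = c) ∧ ∀ x : Fin 64, dact 0 x = x := by
  decide +kernel

/-- The fixed elements of a nontrivial element of the complement are few. -/
theorem fix_small : (∀ d : Fin 8, d ≠ 0 → (Finset.univ.filter fun x => dact d x = x).card ≤ 16) ∧
    ∀ c d : Fin 8, c ≠ 0 → d ≠ 0 → c ≠ d → dmul c c = 0 → dmul d d = 0 → dmul c d = dmul d c →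
      (Finset.univ.filter fun x => dact c x = x ∧ dact d x = x).card ≤ 8 ∧
      (Finset.univ.filter fun b => dmul b b = 0 ∧ dmul b c = dmul c b ∧ dmul b d = dmul d b).card ≤ 4 := by
  decide +kernel

/-- An element of the fixed Sylow subgroup. -/
def code (p : Fin 64 × Fin 8) : C0 := e p.1 * dC p.2

theorem code_mul (x y : Fin 64) (c d : Fin 8) :
    code (x, c) * code (y, d) = code (ad x (dact c y), dmul c d) := by
  change e x * dC c * (e y * dC d) = e (ad x (dact c y)) * dC (dmul c d)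
  rw [← e_mul, ← dC_mul, mul_assoc, ← mul_assoc (dC c), dC_conj]
  group

theorem code_e (x : Fin 64) : code (x, 0) = e x := by
  change e x * dC 0 = e x
  rw [dC_zero, mul_one]

theorem code_injective : Function.Injective code := by
  rintro ⟨x, c⟩ ⟨y, d⟩ h
  obtain ⟨d', hd, -⟩ := d_facts.1 c
  have h' : e (ad x y) = dC (dmul d d') := by
    change e x * dC c = e y * dC d at h
    have h2 : dC c * dC d' = 1 := by rw [dC_mul, hd, dC_zero]
    rw [← e_mul, ← dC_mul]
    calc e x * e y = e y * e x := (e_comm x y).eq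
      _ = e y * (e x * dC c) * dC d' := by rw [mul_assoc, mul_assoc, h2, mul_one]
      _ = dC d * dC d' := by rw [h, ← mul_assoc, e_sq, one_mul]
  have hv : ∀ i, eP (ad x y) i = dP (dmul d d') i := fun i => Equiv.Perm.ext_iff.1 (congrArg Subtype.val h') i
  have h0 := d_facts.2.1 _ _ (hv 0).symm (hv 2).symm (hv 6).symm (hv 10).symm (hv 4).symm (hv 8).symm
  rw [(show ∀ a b z : Fin 8, dmul a z = 0 → dmul b z = 0 → a = b by decide +kernel) c d d' hd h0] at h ⊢
  change e x * dC d = e y * dC d at h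
  rw [e_injective (mul_right_cancel h)]

/-- The fixed Sylow subgroup of the centralizer. -/
def sylC : Subgroup C0 where
  carrier := Set.range code
  one_mem' := ⟨(0, 0), by rw [code_e, e_zero]⟩
  mul_mem' := by
    rintro _ _ ⟨⟨x, c⟩, rfl⟩ ⟨⟨y, d⟩, rfl⟩
    exact ⟨_, (code_mul x y c d).symm⟩
  inv_mem' := by
    rintro _ ⟨⟨x, c⟩, rfl⟩
    obtain ⟨d, -, hd⟩ := d_facts.1 c
    refine ⟨(dact d x, d), eq_inv_of_mul_eq_one_left ?_⟩
    rw [code_mul, (ad_facts.1 _).1, hd, code_e, e_zero]

/-- The three fours inside the centralizer. -/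
def foursC : Subgroup C0 where
  carrier := Set.range e
  one_mem' := ⟨0, e_zero⟩
  mul_mem' := by
    rintro _ _ ⟨x, rfl⟩ ⟨y, rfl⟩
    exact ⟨_, (e_mul x y).symm⟩
  inv_mem' := by
    rintro _ ⟨x, rfl⟩
    exact ⟨x, (inv_eq_of_mul_eq_one_left (e_sq x)).symm⟩

theorem foursC_le : foursC ≤ sylC := by
  rintro _ ⟨x, rfl⟩
  exact ⟨(x, 0), code_e x⟩

theorem card_sylC : Nat.card sylC = 512 := by
  change Nat.card ↥(Set.range code) = 512
  rw [← Nat.card_congr (Equiv.ofInjective code code_injective)]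
  simp [Nat.card_eq_fintype_card]

theorem card_foursC : Nat.card foursC = 64 := by
  change Nat.card ↥(Set.range e) = 64
  rw [← Nat.card_congr (Equiv.ofInjective e e_injective)]
  simp [Nat.card_eq_fintype_card]

/-- The three fours are the only elementary abelian group of order `64` there. -/
theorem unique_fours {L : Subgroup C0} (hL : L ≤ sylC) (h64 : Nat.card L = 64)
    (hsq : ∀ c ∈ L, c * c = 1) : L = foursC := by
  classical
  set F : Finset (Fin 64 × Fin 8) := Finset.univ.filter fun p => code p ∈ L with hF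
  have hmem : ∀ {p}, p ∈ F ↔ code p ∈ L := by simp [hF]
  have hcardF : F.card = 64 := by
    refine Eq.trans ?_ h64
    rw [← Nat.card_eq_finsetCard]
    refine Nat.card_congr (Equiv.ofBijective (fun p => ⟨code p.1, hmem.1 p.2⟩) ⟨fun p q h => ?_, ?_⟩)
    · exact Subtype.ext (code_injective (congrArg Subtype.val h))
    · rintro ⟨c, hc⟩
      obtain ⟨p, rfl⟩ := hL hc
      exact ⟨⟨p, hmem.2 hc⟩, rfl⟩
  have hcomm : ∀ {p q}, p ∈ F → q ∈ F → code p * code q = code q * code p := fun hp hq => by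
    have h := hsq _ (mul_mem (hmem.1 hp) (hmem.1 hq))
    have h1 := hsq _ (hmem.1 hp)
    have h2 := hsq _ (hmem.1 hq)
    rw [← inv_eq_iff_mul_eq_one, mul_inv_rev, inv_eq_of_mul_eq_one_left h1,
      inv_eq_of_mul_eq_one_left h2] at h
    exact h.symm
  set K0 : Finset (Fin 64) := Finset.univ.filter fun x => (x, (0 : Fin 8)) ∈ F with hK0
  set Dimg : Finset (Fin 8) := F.image Prod.snd with hD
  have hDsq : ∀ {d}, d ∈ Dimg → dmul d d = 0 := by
    intro d hd
    obtain ⟨⟨x, d⟩, hp, rfl⟩ := Finset.mem_image.1 hd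
    have h := hsq _ (hmem.1 hp)
    rw [code_mul, ← e_zero, ← code_e] at h
    exact congrArg Prod.snd (code_injective h)
  have hDc : ∀ {c d}, c ∈ Dimg → d ∈ Dimg → dmul c d = dmul d c := by
    intro c d hc hd
    obtain ⟨⟨x, c⟩, hp, rfl⟩ := Finset.mem_image.1 hc
    obtain ⟨⟨y, d⟩, hq, rfl⟩ := Finset.mem_image.1 hd
    have h := hcomm hp hq
    rw [code_mul, code_mul] at h
    exact congrArg Prod.snd (code_injective h)
  have hfix : ∀ {d}, d ∈ Dimg → ∀ {x}, x ∈ K0 → dact d x = x := by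
    intro d hd x hx
    obtain ⟨⟨y, d⟩, hq, rfl⟩ := Finset.mem_image.1 hd
    have h := hcomm hq (Finset.mem_filter.1 hx).2
    rw [code_mul, code_mul, dmul_facts.2] at h
    have h' : ad y (dact d x) = ad x y := congrArg Prod.fst (code_injective h)
    rw [ad_facts.2.1 x y] at h'
    exact (show ∀ y a b, ad y a = ad y b → a = b from fun y a b hab => by
      have := congrArg e hab
      rw [← e_mul, ← e_mul] at this
      exact e_injective (mul_left_cancel this)) _ _ _ h'
  have hbound : F.card ≤ Dimg.card * K0.card := by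
    rw [mul_comm]
    refine Finset.card_le_mul_card_image F _ fun d hd => ?_
    obtain ⟨⟨x0, d'⟩, hp0, hd'⟩ := Finset.mem_image.1 hd
    change d' = d at hd'
    subst hd'
    refine Finset.card_le_card_of_injOn (fun p => ad p.1 (dact d' x0)) ?_ ?_
    · intro p hp
      obtain ⟨hpF, hpd⟩ := Finset.mem_filter.1 hp
      refine Finset.mem_filter.2 ⟨Finset.mem_univ _, hmem.2 ?_⟩
      have := mul_mem (hmem.1 hpF) (hmem.1 hp0)
      obtain ⟨x, d⟩ := p
      change d = d' at hpd
      subst hpd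
      rwa [code_mul, hDsq hd] at this
    · intro p hp q hq h
      obtain ⟨-, hpd⟩ := Finset.mem_filter.1 hp
      obtain ⟨-, hqd⟩ := Finset.mem_filter.1 hq
      have := congrArg e h
      rw [← e_mul, ← e_mul] at this
      exact Prod.ext (e_injective (mul_right_cancel this)) (hpd.trans hqd.symm)
  have hD0 : ∀ d ∈ Dimg, d = 0 := by
    intro c hc
    by_contra hc0
    have hk : K0.card ≤ 16 := (Finset.card_le_card fun x hx =>
      Finset.mem_filter.2 ⟨Finset.mem_univ _, hfix hc hx⟩).trans (fix_small.1 c hc0)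
    by_cases hsub : Dimg ⊆ {0, c}
    · have h2 : Dimg.card ≤ 2 := (Finset.card_le_card hsub).trans Finset.card_le_two
      have := Nat.mul_le_mul h2 hk
      omega
    · obtain ⟨d, hd, hd'⟩ := Finset.not_subset.1 hsub
      simp only [Finset.mem_insert, Finset.mem_singleton, not_or] at hd'
      obtain ⟨h8, h4⟩ := fix_small.2 c d hc0 hd'.1 (Ne.symm hd'.2) (hDsq hc) (hDsq hd) (hDc hc hd)
      have hk' : K0.card ≤ 8 := (Finset.card_le_card fun x hx =>
        Finset.mem_filter.2 ⟨Finset.mem_univ _, hfix hc hx, hfix hd hx⟩).trans h8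
      have h4' : Dimg.card ≤ 4 := (Finset.card_le_card fun b hb =>
        Finset.mem_filter.2 ⟨Finset.mem_univ _, hDsq hb, hDc hb hc, hDc hb hd⟩).trans h4
      have := Nat.mul_le_mul h4' hk'
      omega
  refine Subgroup.eq_of_le_of_card_ge (fun c hc => ?_) (by rw [h64, card_foursC])
  obtain ⟨⟨x, d⟩, rfl⟩ := hL hc
  obtain rfl := hD0 d (Finset.mem_image.2 ⟨(x, d), hmem.2 hc, rfl⟩)
  exact ⟨x, (code_e x).symm⟩

/-- A centralizer of an involution isomorphic to the model and containing a Sylow subgroup. -/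
structure Frame {G : Type u} [Group G] (a : G) (ψ : C0 →* G) : Prop where
  inj : Function.Injective ψ
  range : ψ.range = Subgroup.centralizer ({a} : Set G)
  alpha : ψ alC = a
  two : ∀ P : Sylow 2 G, Nat.card (P : Subgroup G) = 512

namespace Frame

variable {G : Type u} [Group G] [Finite G] {a : G} {ψ : C0 →* G} (D : Frame a ψ)
include D

/-- The image of the fixed Sylow subgroup is a Sylow subgroup. -/
theorem exists_sylow : ∃ P : Sylow 2 G, (P : Subgroup G) = sylC.map ψ := by
  have hc : Nat.card ↥(sylC.map ψ) = 2 ^ 9 := by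
    rw [Subgroup.card_map_of_injective D.inj, card_sylC]
    norm_num
  obtain ⟨P, hP⟩ := (IsPGroup.of_card (p := 2) hc).exists_le_sylow
  refine ⟨P, (Subgroup.eq_of_le_of_card_ge hP ?_).symm⟩
  rw [D.two P, hc]
  norm_num

/-- Elements of the three fours fused in the group are fused by one of their automorphisms. -/
theorem fusion {x y : Fin 64} (h : IsConj (ψ (e x)) (ψ (e y))) :
    ∃ n : G, (∀ z, ∃ w, n * ψ (e z) * n⁻¹ = ψ (e w)) ∧ n * ψ (e x) * n⁻¹ = ψ (e y) := by
  haveI : Fact (Nat.Prime 2) := ⟨Nat.prime_two⟩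
  obtain ⟨P, hP⟩ := D.exists_sylow
  have hwc : Cfsg.IsWeaklyClosed (foursC.map ψ) (P : Subgroup G) := by
    refine ⟨hP ▸ Subgroup.map_mono foursC_le, fun g hg => ?_⟩
    rw [hP] at hg
    set L := ((foursC.map ψ).map (MulAut.conj g).toMonoidHom).comap ψ
    have hL : L.map ψ = (foursC.map ψ).map (MulAut.conj g).toMonoidHom :=
      Subgroup.map_comap_eq_self (hg.trans (Subgroup.map_le_range ψ sylC))
    have hLe : L = foursC := by
      refine unique_fours ?_ ?_ ?_
      · rw [← Subgroup.comap_map_eq_self_of_injective D.inj sylC]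
        exact Subgroup.comap_mono hg
      · rw [← Subgroup.card_map_of_injective (K := L) D.inj, hL,
          Subgroup.card_map_of_injective (MulEquiv.injective _), Subgroup.card_map_of_injective D.inj,
          card_foursC]
      · intro c hc
        obtain ⟨w, hw, hwc⟩ := Subgroup.mem_comap.1 hc
        obtain ⟨v, hv, rfl⟩ := Subgroup.mem_map.1 hw
        obtain ⟨z, rfl⟩ := hv
        refine D.inj ?_
        rw [map_mul, map_one, ← hwc, ← map_mul, ← map_mul, e_sq, map_one, map_one]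
    rw [← hL, hLe]
  obtain ⟨g, hg⟩ := isConj_iff.1 h
  have hmem : ∀ z, ψ (e z) ∈ Subgroup.centralizer ((foursC.map ψ : Subgroup G) : Set G) := by
    intro z
    refine Subgroup.mem_centralizer_iff.2 ?_
    rintro _ ⟨_, ⟨w, rfl⟩, rfl⟩
    rw [← map_mul, ← map_mul, (e_comm w z).eq]
  obtain ⟨n, hn, hne⟩ := Transfer.Fusion.IsWeaklyClosed.exists_normalizer_conj hwc (hmem x) (g := g)
    (hg ▸ hmem y)
  refine ⟨n, fun z => ?_, hne.trans hg⟩
  obtain ⟨v, ⟨w, rfl⟩, hv⟩ := Subgroup.mem_map.1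
    ((Subgroup.mem_normalizer_iff.1 hn (ψ (e z))).1 (Subgroup.mem_map.2 ⟨e z, ⟨z, rfl⟩, rfl⟩))
  exact ⟨w, hv.symm⟩

end Frame

end Cfsg.Agent.AltTwelve.Fus
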