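import Cfsg.Agent.Lib.AltTwelve.Fus.Omega

/-!
# The turn on the common centralizer, its flip and its conjugate on the second four
-/

set_option autoImplicit false
set_option maxRecDepth 100000
set_option linter.unusedSectionVars false
set_option linter.style.haveILetI false

namespace Cfsg.Agent.AltTwelve.Fus

open Cfsg.Agent.AltTwelve.Sp Cfsg.Agent.AltTwelve.Gen

universe u

/-- The exchange of two pairs across the last two fours. -/
def tQ : Equiv.Perm (Fin 12) := Equiv.swap (6 : Fin 12) 8 * Equiv.swap (7 : Fin 12) 9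

theorem extra_facts : Equiv.Perm.sign tQ = 1 ∧ tQ * al = al * tQ ∧ Equiv.Perm.sign fP = 1 ∧ fP * al = al * fP ∧
    Equiv.Perm.sign qP = 1 ∧ qP * al = al * qP := by
  decide +kernel

/-- The exchange in the centralizer. -/
def tE : C0 := ⟨tQ, mem_C0 extra_facts.1 extra_facts.2.1⟩

/-- The flips in the centralizer. -/
def fE : C0 := ⟨fP, mem_C0 extra_facts.2.2.1 extra_facts.2.2.2.1⟩

/-- The exchange of fours in the centralizer. -/
def qE : C0 := ⟨qP, mem_C0 extra_facts.2.2.2.2.1 extra_facts.2.2.2.2.2⟩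

theorem g12_facts : g12 * al * g12⁻¹ = eP 22 ∧ g12 * tQ * g12⁻¹ = tQ ∧
    (∀ x, g12 * eP x * g12⁻¹ = eP (om x)) := by
  decide +kernel

/-- Words to the images of the point `4`. -/
def word4 : Fin 12 → C0 :=
  ![1, 1, 1, 1, 1, e 4, e 8, e 8 * e 4, tE * e 8, tE * (e 8 * e 4), e 32 * (tE * e 8), e 32 * (tE * (e 8 * e 4))]

/-- Words to the images of the point `6` fixing `4`. -/
def word6 : Fin 12 → C0 :=
  ![1, 1, 1, 1, 1, 1, 1, tE * (e 16 * tE), tE, e 16 * tE, e 32 * tE, e 32 * (e 16 * tE)]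

/-- Words to the images of the point `8` fixing `4` and `6`. -/
def word8 : Fin 12 → C0 := ![1, 1, 1, 1, 1, 1, 1, 1, 1, e 16, e 32, e 32 * e 16]

theorem word_facts :
    (∀ j : Fin 12, 4 ≤ j.val → (word4 j).val 4 = j) ∧
    (∀ j : Fin 12, 6 ≤ j.val → (word6 j).val 6 = j ∧ (word6 j).val 4 = 4) ∧
    (∀ j : Fin 12, 8 ≤ j.val → (word8 j).val 8 = j ∧ (word8 j).val 4 = 4 ∧ (word8 j).val 6 = 6) ∧
    (∀ j : Fin 12, ∀ i : Fin 12, i.val < 4 → (word4 j).val i = i ∧ (word6 j).val i = i ∧ (word8 j).val i = i) ∧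
    (∀ i : Fin 12, i.val < 4 → eP 3 i ≠ i) ∧ (∀ i : Fin 12, ¬ i.val < 4 → eP 3 i = i) ∧
    (∀ i : Fin 12, i.val < 4 → ∃ z : Fin 4, eP (Fin.ofNat 64 z.val) 0 = i) ∧
    eP 22 = al * eP 3 ∧ eP 3 * tQ = tQ * eP 3 ∧ al 0 = 1 ∧ eP 22 0 = 2 ∧ eP 3 0 = 3 ∧
    al 4 = 5 ∧ al 6 = 7 ∧ al 8 = 9 := by
  decide +kernel

theorem candidates : ∀ (z : Fin 4) (i : Fin 8) (j : Fin 6) (k : Fin 4),
    (let c : Equiv.Perm (Fin 12) := eP (Fin.ofNat 64 z.val) * ((word4 (Fin.ofNat 12 (4 + i.val))).val *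
      ((word6 (Fin.ofNat 12 (6 + j.val))).val * (word8 (Fin.ofNat 12 (8 + k.val))).val));
    (∀ p, c p = eP 32 p) ∨ (∃ p, c (c p) ≠ p) ∨ (∃ p, c (eP 32 (c (eP 32 (c (eP 32 p))))) ≠ p) ∨
      ∃ v : Fin 16, ∀ p, c p = eP (Fin.ofNat 64 (4 * v.val)) (tQ (eP (Fin.ofNat 64 (4 * v.val)) p))) := by
  decide +kernel

theorem tE_facts : (∀ p, tQ (eP 32 (tQ (eP 32 (tQ (eP 32 p))))) = p) ∧ (∀ p, tQ (tQ p) = p) ∧
    tQ * eP 23 = eP 23 * tQ ∧ tQ * eP 2 = eP 2 * tQ ∧ om 32 = 32 ∧ om 23 = 21 ∧ om 21 = 22 ∧ om 0 = 0 ∧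
    (∀ v : Fin 16, om (Fin.ofNat 64 (4 * v.val)) = Fin.ofNat 64 (4 * v.val)) := by
  decide +kernel

/-- The action of the flips. -/
def fa (x : Fin 64) : Fin 64 :=
  Fin.ofNat 64 (x.val / 16 * 16 + ((![0, 1, 3, 2] : Fin 4 → ℕ) (Fin.ofNat 4 (x.val / 4))) * 4 +
    (![0, 1, 3, 2] : Fin 4 → ℕ) (Fin.ofNat 4 x.val))

/-- The action of the exchange. -/
def qa (x : Fin 64) : Fin 64 := Fin.ofNat 64 (x.val / 16 * 16 + x.val % 4 * 4 + x.val / 4 % 4)

/-- The turn of the second component. -/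
def om2 (x : Fin 64) : Fin 64 := qa (om (qa x))

theorem action_facts : (∀ x, fP * eP x = eP (fa x) * fP) ∧ (∀ x, qP * eP x = eP (qa x) * qP) ∧
    (∀ x, fa (om (fa (om x))) = x) ∧ (∀ x, om (om2 x) = om2 (om x)) ∧ fP * fP = 1 ∧ qP * qP = 1 ∧
    (∀ v, ad (ad v (om (om v))) (om v) = 0 → om v = fa v → v = 0 ∨ v = 2) ∧
    (∀ x, om2 (om2 (om2 x)) = x) ∧
    (∀ v, ad (ad v (om2 v)) (om2 (om2 v)) = 0 → ad (ad v (om v)) (om (om v)) = 0 → v = 0) ∧
    ad 2 (om 2) = 1 ∧ ad 2 (fa 2) = 1 ∧ fa 2 = 3 ∧ om 2 = 3 ∧ om (om 1) = 3 ∧ ad 1 2 = 3 := by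
  decide +kernel

theorem conj_of_perm {p q : C0} {x y : Fin 64} (h : p.val * eP x = eP y * p.val) (hq : q = p) :
    q * e x * q⁻¹ = e y :=
  hq ▸ mul_inv_eq_iff_eq_mul.2 (Subtype.ext h)

attribute [local irreducible] al eP tQ g12 fP qP

namespace Frame

variable {G : Type u} [Group G] [Finite G] {a : G} {ψ : C0 →* G} (D : Frame a ψ)

/-- The elements on which conjugation by the element is conjugation by the three-cycle. -/
def agree (ψ : C0 →* G) (g : G) : Subgroup C0 where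
  carrier := {c | ∃ c' : C0, c'.val = g12 * c.val * g12⁻¹ ∧ g * ψ c * g⁻¹ = ψ c'}
  one_mem' := ⟨1, by simp, by simp⟩
  mul_mem' := by
    rintro c d ⟨c', hc, hc'⟩ ⟨d', hd, hd'⟩
    refine ⟨c' * d', ?_, ?_⟩
    · rw [Subgroup.coe_mul, Subgroup.coe_mul, hc, hd]; group
    · rw [map_mul, map_mul, ← hc', ← hd']; group
  inv_mem' := by
    rintro c ⟨c', hc, hc'⟩
    refine ⟨c'⁻¹, ?_, ?_⟩
    · rw [Subgroup.coe_inv, Subgroup.coe_inv, hc]; group
    · rw [map_inv, map_inv, ← hc']; group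

/-- The common centralizer is generated by the three fours and one exchange. -/
theorem decompose {c : C0} (hc : c.val * eP 22 = eP 22 * c.val) :
    ∃ z : Fin 4, ∃ (i : Fin 8) (j : Fin 6) (k : Fin 4), c = e (Fin.ofNat 64 z.val) *
      (word4 (Fin.ofNat 12 (4 + i.val)) * (word6 (Fin.ofNat 12 (6 + j.val)) * word8 (Fin.ofNat 12 (8 + k.val)))) := by
  obtain ⟨w4, w6, w8, wfix, h3in, h3out, hz, h22, -, a0, b0, c0', a4, a6, a8⟩ := word_facts
  have hal : ∀ d : C0, ∀ p, d.val (al p) = al (d.val p) := fun d p =>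
    Equiv.Perm.ext_iff.1 (Subgroup.mem_centralizer_singleton_iff.1 d.2.2) p
  have hc3 : ∀ p, c.val (eP 3 p) = eP 3 (c.val p) := by
    intro p
    have h' := Equiv.Perm.ext_iff.1 hc p
    rw [h22, Equiv.Perm.mul_apply, Equiv.Perm.mul_apply, Equiv.Perm.mul_apply, hal] at h'
    exact al.injective h'
  have hblock : ∀ p : Fin 12, (c.val p).val < 4 ↔ p.val < 4 := by
    intro p
    constructor <;> intro hp <;> by_contra hq
    · exact h3in _ hp (by rw [← hc3, h3out p hq])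
    · exact h3in _ hp (c.val.injective (by rw [hc3, h3out _ hq]))
  obtain ⟨z, hz0⟩ := hz (c.val 0) ((hblock 0).2 (by decide))
  set h : C0 := (e (Fin.ofNat 64 z.val))⁻¹ * c with hh
  have h0 : h.val 0 = 0 := by
    rw [hh, Subgroup.coe_mul, Equiv.Perm.mul_apply, Subgroup.coe_inv, Equiv.Perm.inv_eq_iff_eq]
    exact hz0.symm
  have hcomm : ∀ {x}, (∀ p, c.val (eP x p) = eP x (c.val p)) → ∀ p, h.val (eP x p) = eP x (h.val p) := by
    intro x hx p
    rw [hh, Subgroup.coe_mul, Equiv.Perm.mul_apply, Equiv.Perm.mul_apply, hx, Subgroup.coe_inv,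
      Equiv.Perm.inv_eq_iff_eq]
    have hee := Equiv.Perm.ext_iff.1 (congrArg Subtype.val (e_comm (Fin.ofNat 64 z.val) x).eq)
      ((e (Fin.ofNat 64 z.val)).val⁻¹ (c.val p))
    simp only [Subgroup.coe_mul, Equiv.Perm.mul_apply, Equiv.Perm.coe_inv, Equiv.apply_symm_apply] at hee ⊢
    exact hee.symm
  have hfix : ∀ p : Fin 12, p.val < 4 → h.val p = p := by
    intro p hp
    rcases (show ∀ p : Fin 12, p.val < 4 → p = 0 ∨ p = 1 ∨ p = 2 ∨ p = 3 by decide) p hp with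
      rfl | rfl | rfl | rfl
    · exact h0
    · rw [← a0, hal, h0]
    · rw [← b0, hcomm (fun q => Equiv.Perm.ext_iff.1 hc q), h0]
    · rw [← c0', hcomm hc3, h0]
  have hge : ∀ p : Fin 12, ¬ p.val < 4 → 4 ≤ (h.val p).val := fun p hp => by
    by_contra hq
    have := h.val.injective (hfix _ (not_le.1 hq))
    rw [this] at hq
    exact hp (not_le.1 hq)
  set j4 := h.val 4 with hj4
  set r : C0 := (word4 j4)⁻¹ * h with hr
  have hr4 : r.val 4 = 4 := by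
    rw [hr, Subgroup.coe_mul, Equiv.Perm.mul_apply, Subgroup.coe_inv, Equiv.Perm.inv_eq_iff_eq,
      w4 j4 (hge 4 (by decide))]
  have hrfix : ∀ p : Fin 12, p.val < 6 → r.val p = p := by
    intro p hp
    rcases (show ∀ p : Fin 12, p.val < 6 → p.val < 4 ∨ p = 4 ∨ p = 5 by decide) p hp with h' | rfl | rfl
    · rw [hr, Subgroup.coe_mul, Equiv.Perm.mul_apply, hfix p h', Subgroup.coe_inv, Equiv.Perm.inv_eq_iff_eq,
        (wfix j4 p h').1]
    · exact hr4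
    · rw [← a4, hal, hr4]
  have hge6 : ∀ p : Fin 12, ¬ p.val < 6 → 6 ≤ (r.val p).val := fun p hp => by
    by_contra hq
    have := r.val.injective (hrfix _ (not_le.1 hq))
    rw [this] at hq
    exact hp (not_le.1 hq)
  set j6 := r.val 6 with hj6
  set s : C0 := (word6 j6)⁻¹ * r with hs
  have hs6 : s.val 6 = 6 := by
    rw [hs, Subgroup.coe_mul, Equiv.Perm.mul_apply, Subgroup.coe_inv, Equiv.Perm.inv_eq_iff_eq,
      (w6 j6 (hge6 6 (by decide))).1]
  have hs4 : s.val 4 = 4 := by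
    rw [hs, Subgroup.coe_mul, Equiv.Perm.mul_apply, hrfix 4 (by decide), Subgroup.coe_inv,
      Equiv.Perm.inv_eq_iff_eq, (w6 j6 (hge6 6 (by decide))).2]
  have hsfix : ∀ p : Fin 12, p.val < 8 → s.val p = p := by
    intro p hp
    rcases (show ∀ p : Fin 12, p.val < 8 → p.val < 4 ∨ p = 4 ∨ p = 5 ∨ p = 6 ∨ p = 7 by decide) p hp with
      h' | rfl | rfl | rfl | rfl
    · rw [hs, Subgroup.coe_mul, Equiv.Perm.mul_apply, hrfix p (by omega), Subgroup.coe_inv,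
        Equiv.Perm.inv_eq_iff_eq, (wfix j6 p h').2.1]
    · exact hs4
    · rw [← a4, hal, hs4]
    · exact hs6
    · rw [← a6, hal, hs6]
  have hge8 : ∀ p : Fin 12, ¬ p.val < 8 → 8 ≤ (s.val p).val := fun p hp => by
    by_contra hq
    have := s.val.injective (hsfix _ (not_le.1 hq))
    rw [this] at hq
    exact hp (not_le.1 hq)
  set j8 := s.val 8 with hj8
  set t : C0 := (word8 j8)⁻¹ * s with ht
  have hw8 := w8 j8 (hge8 8 (by decide))
  have ht8 : t.val 8 = 8 := by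
    rw [ht, Subgroup.coe_mul, Equiv.Perm.mul_apply, Subgroup.coe_inv, Equiv.Perm.inv_eq_iff_eq, hw8.1]
  have htfix : ∀ p : Fin 12, p.val < 10 → t.val p = p := by
    intro p hp
    have h4 : t.val 4 = 4 := by
      rw [ht, Subgroup.coe_mul, Equiv.Perm.mul_apply, hsfix 4 (by decide), Subgroup.coe_inv,
        Equiv.Perm.inv_eq_iff_eq, hw8.2.1]
    have h6 : t.val 6 = 6 := by
      rw [ht, Subgroup.coe_mul, Equiv.Perm.mul_apply, hsfix 6 (by decide), Subgroup.coe_inv,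
        Equiv.Perm.inv_eq_iff_eq, hw8.2.2]
    rcases (show ∀ p : Fin 12, p.val < 10 → p.val < 4 ∨ p = 4 ∨ p = 5 ∨ p = 6 ∨ p = 7 ∨ p = 8 ∨ p = 9 by decide)
      p hp with h' | rfl | rfl | rfl | rfl | rfl | rfl
    · rw [ht, Subgroup.coe_mul, Equiv.Perm.mul_apply, hsfix p (by omega), Subgroup.coe_inv,
        Equiv.Perm.inv_eq_iff_eq, (wfix j8 p h').2.2]
    · exact h4
    · rw [← a4, hal, h4]
    · exact h6
    · rw [← a6, hal, h6]
    · exact ht8
    · rw [← a8, hal, ht8]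
  have ht1 : t = 1 := by
    have hor : ∀ p : Fin 12, ¬ p.val < 10 → p = 10 ∨ p = 11 := by decide
    have hhi : ∀ p : Fin 12, ¬ p.val < 10 → ¬ (t.val p).val < 10 := fun p hp hq => by
      have := t.val.injective (htfix _ hq)
      rw [this] at hq
      exact hp hq
    rcases hor _ (hhi 10 (by decide)) with e10 | e10
    · refine Subtype.ext (Equiv.ext fun p => ?_)
      by_cases hp : p.val < 10
      · exact htfix p hp
      rcases hor p hp with rfl | rfl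
      · exact e10
      · rcases hor _ (hhi 11 (by decide)) with e11 | e11
        · exact absurd (t.val.injective (e11.trans e10.symm)) (by decide)
        · exact e11
    · exfalso
      have hsw : t.val = Equiv.swap (10 : Fin 12) 11 := by
        refine Equiv.ext fun p => ?_
        by_cases hp : p.val < 10
        · rw [htfix p hp, Equiv.swap_apply_of_ne_of_ne] <;> (rintro rfl; exact absurd hp (by decide))
        rcases hor p hp with rfl | rfl
        · rw [Equiv.swap_apply_left, e10]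
        · rw [Equiv.swap_apply_right]
          rcases hor _ (hhi 11 (by decide)) with e11 | e11
          · exact e11
          · exact absurd (t.val.injective (e11.trans e10.symm)) (by decide)
      have h1 : Equiv.Perm.sign t.val = 1 := Equiv.Perm.mem_alternatingGroup.1 t.2.1
      rw [hsw, Equiv.Perm.sign_swap (by decide)] at h1
      exact absurd h1 (by decide)
  have back : ∀ (j : Fin 12) (n : ℕ), n ≤ j.val → Fin.ofNat 12 (n + (j.val - n)) = j := fun j n hn => by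
    refine Fin.ext ?_
    rw [Fin.val_ofNat]
    omega
  have g4 := hge 4 (by decide)
  have g6 := hge6 6 (by decide)
  have g8 := hge8 8 (by decide)
  refine ⟨z, ⟨j4.val - 4, by omega⟩, ⟨j6.val - 6, by omega⟩, ⟨j8.val - 8, by omega⟩, ?_⟩
  rw [back j4 4 g4, back j6 6 g6, back j8 8 g8, show word8 j8 = s by
    rw [ht, inv_mul_eq_one] at ht1; exact ht1,
    hs, mul_inv_cancel_left, hr, mul_inv_cancel_left, hh, mul_inv_cancel_left]

include D

/-- The turn centralizes the exchange. -/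
theorem turn_tE {g : G} (hg3 : g ^ 3 = 1) (hg : ∀ x, g * ψ (e x) * g⁻¹ = ψ (e (om x))) :
    g * ψ tE * g⁻¹ = ψ tE := by
  obtain ⟨ht32, ht2, ht23, -, o32, o23, o21, -, oB⟩ := tE_facts
  have h23 : Commute (g * ψ tE * g⁻¹) a := by
    rw [← D.alpha', ← o23, ← hg]
    have h : Commute (ψ tE) (ψ (e 23)) := (show Commute tE (e 23) from Subtype.ext ht23).map ψ
    simpa only [MulEquiv.coe_toMonoidHom, MulAut.conj_apply] using h.map (MulAut.conj g).toMonoidHom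
  obtain ⟨c, hc⟩ : g * ψ tE * g⁻¹ ∈ ψ.range := D.range ▸ Subgroup.mem_centralizer_singleton_iff.2 h23.eq
  have hcomm : c.val * eP 22 = eP 22 * c.val := by
    have h : c * e 22 = e 22 * c := D.inj (by
      rw [map_mul, map_mul, hc, ← o21, ← hg]
      have ht : ψ tE * ψ (e 21) = ψ (e 21) * ψ tE := by
        rw [← map_mul, ← map_mul, e_alpha, (alC_central tE).eq]
      calc g * ψ tE * g⁻¹ * (g * ψ (e 21) * g⁻¹) = g * (ψ tE * ψ (e 21)) * g⁻¹ := by group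
        _ = g * (ψ (e 21) * ψ tE) * g⁻¹ := by rw [ht]
        _ = g * ψ (e 21) * g⁻¹ * (g * ψ tE * g⁻¹) := by group)
    exact congrArg Subtype.val h
  obtain ⟨z, i, j, k, hdec⟩ := decompose hcomm
  have hsq : ∀ p, c.val (c.val p) = p := by
    have h : c * c = 1 := D.inj (by
      rw [map_mul, map_one, hc, show g * ψ tE * g⁻¹ * (g * ψ tE * g⁻¹) = g * (ψ tE * ψ tE) * g⁻¹ by group,
        ← map_mul, show tE * tE = 1 from Subtype.ext (Equiv.ext ht2), map_one, mul_one, mul_inv_cancel])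
    exact fun p => Equiv.Perm.ext_iff.1 (congrArg Subtype.val h) p
  have hord : ∀ p, c.val (eP 32 (c.val (eP 32 (c.val (eP 32 p))))) = p := by
    have ht : tE * e 32 * (tE * e 32) * (tE * e 32) = 1 := Subtype.ext (Equiv.ext ht32)
    have h : c * e 32 * (c * e 32) * (c * e 32) = 1 := D.inj (by
      rw [map_mul, map_mul, map_mul, map_one, hc, show ψ (e 32) = g * ψ (e 32) * g⁻¹ by rw [hg, o32],
        show g * ψ tE * g⁻¹ * (g * ψ (e 32) * g⁻¹) * (g * ψ tE * g⁻¹ * (g * ψ (e 32) * g⁻¹)) *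
          (g * ψ tE * g⁻¹ * (g * ψ (e 32) * g⁻¹)) =
          g * (ψ tE * ψ (e 32) * (ψ tE * ψ (e 32)) * (ψ tE * ψ (e 32))) * g⁻¹ by group,
        ← map_mul, ← map_mul, ← map_mul, ht, map_one, mul_one, mul_inv_cancel])
    exact fun p => Equiv.Perm.ext_iff.1 (congrArg Subtype.val h) p
  have hval : c.val = eP (Fin.ofNat 64 z.val) * ((word4 (Fin.ofNat 12 (4 + i.val))).val *
      ((word6 (Fin.ofNat 12 (6 + j.val))).val * (word8 (Fin.ofNat 12 (8 + k.val))).val)) := by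
    rw [hdec]; rfl
  rcases candidates z i j k with hp | ⟨p, hp⟩ | ⟨p, hp⟩ | ⟨v, hv⟩
  · exfalso
    rw [← hval] at hp
    rw [show c = e 32 from Subtype.ext (Equiv.ext hp), ← o32, ← hg] at hc
    have h' : ψ (e 32) = ψ tE := by simpa using hc
    have h'' := congrArg Subtype.val (D.inj h')
    exact (show eP 32 ≠ tQ by decide +kernel) h''
  · rw [← hval] at hp; exact absurd (hsq p) hp
  · rw [← hval] at hp; exact absurd (hord p) hp
  set b := Fin.ofNat 64 (4 * v.val) with hb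
  have hcv : c = e b * tE * e b := Subtype.ext (Equiv.ext fun p => (hval ▸ hv p :))
  have hgb : g * ψ (e b) * g⁻¹ = ψ (e b) := by rw [hg, hb, oB v]
  set T := ψ tE with hT
  set B := ψ (e b) with hB
  have hB2 : B * B = 1 := by rw [hB, ← map_mul, e_sq, map_one]
  have h1 : g * T * g⁻¹ = B * T * B := by rw [← hc, hcv, map_mul, map_mul]
  have h2 : g * (g * T * g⁻¹) * g⁻¹ = T := by
    rw [h1, show g * (B * T * B) * g⁻¹ = g * B * g⁻¹ * (g * T * g⁻¹) * (g * B * g⁻¹) by group, hgb, h1,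
      show B * (B * T * B) * B = B * B * T * (B * B) by group, hB2, one_mul, mul_one]
  calc g * T * g⁻¹ = g * (g * (g * T * g⁻¹) * g⁻¹) * g⁻¹ := by rw [h2]
    _ = g ^ 3 * T * (g ^ 3)⁻¹ := by rw [pow_succ, pow_two, mul_inv_rev, mul_inv_rev]; group
    _ = T := by rw [hg3, one_mul, inv_one, mul_one]

/-- The element of the main case. -/
theorem twentySeven (h : ∀ x, fused a ψ x = cand 120 x) : ∃ g : G, Gen.Base a ψ g := by
  classical
  obtain ⟨ff, qq, hfo, hoo, hf2, hq2, hv, ho2, hv2, o12, f12, fb, ob, o1, a12⟩ := action_facts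
  obtain ⟨-, -, ho3, homad⟩ := om_lin
  have hfconj : ∀ x, ψ fE * ψ (e x) * (ψ fE)⁻¹ = ψ (e (fa x)) := fun x => by
    rw [← map_inv, ← map_mul, ← map_mul, conj_of_perm (p := fE) (ff x) rfl]
  have hqconj : ∀ x, ψ qE * ψ (e x) * (ψ qE)⁻¹ = ψ (e (qa x)) := fun x => by
    rw [← map_inv, ← map_mul, ← map_mul, conj_of_perm (p := qE) (qq x) rfl]
  have hF2 : ψ fE * ψ fE = 1 := by rw [← map_mul, show fE * fE = 1 from Subtype.ext hf2, map_one]
  have hQ2 : ψ qE * ψ qE = 1 := by rw [← map_mul, show qE * qE = 1 from Subtype.ext hq2, map_one]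
  obtain ⟨g₀, hg₀3, hg₀⟩ := D.exists_turn h
  -- the flip
  set k := ψ fE * g₀ * (ψ fE)⁻¹ * g₀ with hk
  obtain ⟨v, hkv⟩ := D.cent_all (n := k) fun x => by
    refine mul_inv_eq_iff_eq_mul.1 ?_
    have hfi : ∀ y, (ψ fE)⁻¹ * ψ (e y) * ψ fE = ψ (e (fa y)) := fun y => by
      rw [← hfconj, inv_eq_of_mul_eq_one_left hF2]
    calc k * ψ (e x) * k⁻¹ = ψ fE * (g₀ * ((ψ fE)⁻¹ * (g₀ * ψ (e x) * g₀⁻¹) * ψ fE) * g₀⁻¹) * (ψ fE)⁻¹ := by
          rw [hk]; group
      _ = ψ (e x) := by rw [hg₀, hfi, hg₀, hfconj, hfo]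
  have hflip : ψ fE * g₀ * (ψ fE)⁻¹ = ψ (e v) * g₀⁻¹ := by rw [← hkv, hk, mul_inv_cancel_right]
  have hgi : ∀ x, g₀⁻¹ * ψ (e x) * g₀ = ψ (e (om (om x))) := fun x => by
    conv_lhs => rw [← ho3 x, ← hg₀]
    group
  have hv3 : ad (ad v (om (om v))) (om v) = 0 := by
    refine e_injective (D.inj ?_)
    have hc : (ψ (e v) * g₀⁻¹) ^ 3 = 1 := by rw [← hflip, conj_pow, hg₀3, mul_one, mul_inv_cancel]
    rw [e_zero, map_one, ← hc, ← e_mul, ← e_mul, map_mul, map_mul, ← hgi, ← hg₀ v, pow_succ, pow_two]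
    have h3 : g₀ * g₀ * g₀ = 1 := by rw [← hg₀3, pow_succ, pow_two]
    calc ψ (e v) * (g₀⁻¹ * ψ (e v) * g₀) * (g₀ * ψ (e v) * g₀⁻¹)
        = ψ (e v) * g₀⁻¹ * ψ (e v) * (g₀ * g₀ * g₀) * g₀⁻¹ * ψ (e v) * g₀⁻¹ := by group
      _ = _ := by rw [h3]; group
  have hvf : om v = fa v := by
    refine e_injective (D.inj ?_)
    rw [← hg₀, ← hfconj]
    have h2 : ψ fE * (ψ (e v) * g₀⁻¹) * (ψ fE)⁻¹ = g₀ := by
      rw [← hflip]
      calc ψ fE * (ψ fE * g₀ * (ψ fE)⁻¹) * (ψ fE)⁻¹ = ψ fE * ψ fE * g₀ * (ψ fE * ψ fE)⁻¹ := by group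
        _ = g₀ := by rw [hF2, one_mul, inv_one, mul_one]
    calc g₀ * ψ (e v) * g₀⁻¹ = ψ fE * (ψ (e v) * g₀⁻¹) * (ψ fE)⁻¹ * ψ (e v) * g₀⁻¹ := by rw [h2]
      _ = ψ fE * ψ (e v) * (ψ fE)⁻¹ * (ψ fE * g₀ * (ψ fE)⁻¹)⁻¹ * ψ (e v) * g₀⁻¹ := by group
      _ = ψ fE * ψ (e v) * (ψ fE)⁻¹ * g₀ * ((ψ (e v))⁻¹ * ψ (e v)) * g₀⁻¹ := by rw [hflip]; group
      _ = ψ fE * ψ (e v) * (ψ fE)⁻¹ := by group
  obtain ⟨g, hg3, hg, hgf⟩ : ∃ g : G, g ^ 3 = 1 ∧ (∀ x, g * ψ (e x) * g⁻¹ = ψ (e (om x))) ∧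
      ψ fE * g * (ψ fE)⁻¹ = g⁻¹ := by
    rcases hv v hv3 hvf with rfl | rfl
    · exact ⟨g₀, hg₀3, hg₀, by rw [hflip, e_zero, map_one, one_mul]⟩
    set Z := ψ (e 2) with hZ
    have hZ2 : Z⁻¹ = Z := inv_eq_of_mul_eq_one_left (by rw [hZ, ← map_mul, e_sq, map_one])
    refine ⟨Z * g₀ * Z⁻¹, by rw [conj_pow, hg₀3, mul_one, mul_inv_cancel], fun x => ?_, ?_⟩
    · calc Z * g₀ * Z⁻¹ * ψ (e x) * (Z * g₀ * Z⁻¹)⁻¹
          = Z * (g₀ * (Z⁻¹ * ψ (e x) * Z) * g₀⁻¹) * Z⁻¹ := by group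
        _ = ψ (e (om x)) := by
          rw [hZ2, ← map_mul, ← map_mul, show e 2 * e x * e 2 = e x by
            rw [(e_comm 2 x).eq, mul_assoc, e_sq, mul_one], hg₀, ← map_mul, ← map_mul,
            show e 2 * e (om x) * e 2 = e (om x) by rw [(e_comm 2 _).eq, mul_assoc, e_sq, mul_one]]
    · have e1 : Z * g₀ * Z⁻¹ = ψ (e 1) * g₀ := by
        have hh : g₀ * Z⁻¹ * g₀⁻¹ = ψ (e (om 2)) := by rw [hZ2, hZ, hg₀]
        rw [show Z * g₀ * Z⁻¹ = Z * (g₀ * Z⁻¹ * g₀⁻¹) * g₀ by group, hh, hZ, ← map_mul, e_mul, o12]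
      rw [e1, show ψ fE * (ψ (e 1) * g₀) * (ψ fE)⁻¹ =
        ψ fE * ψ (e 1) * (ψ fE)⁻¹ * (ψ fE * g₀ * (ψ fE)⁻¹) by group, hfconj, hflip,
        show fa 1 = 1 by decide +kernel, ← mul_assoc, ← map_mul, e_mul, a12, mul_inv_rev, ← map_inv,
        inv_eq_of_mul_eq_one_left (e_sq 1)]
      rw [show g₀⁻¹ * ψ (e 1) = g₀⁻¹ * ψ (e 1) * g₀ * g₀⁻¹ by group, hgi, o1]
  -- the conjugate on the second four
  set g' := ψ qE * g * (ψ qE)⁻¹ with hg'
  have hg'3 : g' ^ 3 = 1 := by rw [hg', conj_pow, hg3, mul_one, mul_inv_cancel]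
  have hqi : ∀ y, (ψ qE)⁻¹ * ψ (e y) * ψ qE = ψ (e (qa y)) := fun y => by
    rw [← hqconj, inv_eq_of_mul_eq_one_left hQ2]
  have hg2 : ∀ x, g' * ψ (e x) * g'⁻¹ = ψ (e (om2 x)) := fun x => by
    calc g' * ψ (e x) * g'⁻¹ = ψ qE * (g * ((ψ qE)⁻¹ * ψ (e x) * ψ qE) * g⁻¹) * (ψ qE)⁻¹ := by rw [hg']; group
      _ = ψ (e (om2 x)) := by rw [hqi, hg, hqconj]; rfl
  have hcube : ∀ {u y : G} {o : Fin 64 → Fin 64} {w : Fin 64}, u ^ 3 = 1 →
      (∀ x, u * ψ (e x) * u⁻¹ = ψ (e (o x))) → y * u * y⁻¹ = ψ (e w) * u →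
      ad (ad w (o w)) (o (o w)) = 0 := by
    intro u y o w hu ho hy
    refine e_injective (D.inj ?_)
    have hc : (ψ (e w) * u) ^ 3 = 1 := by rw [← hy, conj_pow, hu, mul_one, mul_inv_cancel]
    have hu' : u * u * u = 1 := by rw [← hu, pow_succ, pow_two]
    rw [e_zero, map_one, ← hc, ← e_mul, ← e_mul, map_mul, map_mul, ← ho (o w), ← ho w, pow_succ, pow_two]
    calc ψ (e w) * (u * ψ (e w) * u⁻¹) * (u * (u * ψ (e w) * u⁻¹) * u⁻¹)
        = ψ (e w) * u * (ψ (e w) * u) * ψ (e w) * (u⁻¹ * u⁻¹) := by group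
      _ = ψ (e w) * u * (ψ (e w) * u) * (ψ (e w) * u) * (u * u * u)⁻¹ := by group
      _ = _ := by rw [hu', inv_one, mul_one]
  obtain ⟨w, hw⟩ := D.cent_all (n := g * g' * g⁻¹ * g'⁻¹) fun x => by
    refine mul_inv_eq_iff_eq_mul.1 ?_
    have hgi' : ∀ y z, g * ψ (e z) * g⁻¹ = ψ (e y) → g⁻¹ * ψ (e y) * g = ψ (e z) := fun y z hz => by
      rw [← hz]; group
    have hgi2 : ∀ y z, g' * ψ (e z) * g'⁻¹ = ψ (e y) → g'⁻¹ * ψ (e y) * g' = ψ (e z) := fun y z hz => by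
      rw [← hz]; group
    calc g * g' * g⁻¹ * g'⁻¹ * ψ (e x) * (g * g' * g⁻¹ * g'⁻¹)⁻¹
        = g * (g' * (g⁻¹ * (g'⁻¹ * ψ (e x) * g') * g) * g'⁻¹) * g⁻¹ := by group
      _ = ψ (e x) := by
        rw [hgi2 x (om2 (om2 x)) (by rw [hg2, ho2]), hgi' _ (om (om (om2 (om2 x)))) (by rw [hg, ho3]), hg2, hg,
          hoo, ho3, ho2]
  have hw0 : w = 0 := by
    refine hv2 w (hcube (y := g) hg'3 hg2 (by rw [← hw, inv_mul_cancel_right])) (hcube (y := g') hg3 hg ?_)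
    rw [← inv_eq_of_mul_eq_one_left (e_sq w), map_inv, ← hw]
    group
  rw [hw0, e_zero, map_one] at hw
  -- the common centralizer
  have hage : ∀ x, e x ∈ agree ψ g := fun x => ⟨e (om x), ((g12_facts.2.2 x)).symm, hg x⟩
  have hagt : tE ∈ agree ψ g := ⟨tE, g12_facts.2.1.symm, D.turn_tE hg3 hg⟩
  have hw4 : ∀ j, word4 j ∈ agree ψ g := by
    intro j
    fin_cases j
    exacts [one_mem _, one_mem _, one_mem _, one_mem _, one_mem _, hage _, hage _, mul_mem (hage _) (hage _),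
      mul_mem hagt (hage _), mul_mem hagt (mul_mem (hage _) (hage _)), mul_mem (hage _) (mul_mem hagt (hage _)),
      mul_mem (hage _) (mul_mem hagt (mul_mem (hage _) (hage _)))]
  have hw6 : ∀ j, word6 j ∈ agree ψ g := by
    intro j
    fin_cases j
    exacts [one_mem _, one_mem _, one_mem _, one_mem _, one_mem _, one_mem _, one_mem _,
      mul_mem hagt (mul_mem (hage _) hagt), hagt, mul_mem (hage _) hagt, mul_mem (hage _) hagt,
      mul_mem (hage _) (mul_mem (hage _) hagt)]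
  have hw8 : ∀ j, word8 j ∈ agree ψ g := by
    intro j
    fin_cases j
    exacts [one_mem _, one_mem _, one_mem _, one_mem _, one_mem _, one_mem _, one_mem _, one_mem _, one_mem _,
      hage _, hage _, mul_mem (hage _) (hage _)]
  refine ⟨g, ⟨D.inj, D.range, D.alpha, fun c d hc hd hcd => D.separate h hc hd hcd, hg3, ?_, ?_, ?_⟩⟩
  · intro c hc c' hc'
    rw [g12_facts.1] at hc
    obtain ⟨z, i, j, k, rfl⟩ := decompose hc
    obtain ⟨d, hd, hd'⟩ : e _ * (word4 _ * (word6 _ * word8 _)) ∈ agree ψ g :=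
      mul_mem (hage (Fin.ofNat 64 z.val)) (mul_mem (hw4 (Fin.ofNat 12 (4 + i.val)))
        (mul_mem (hw6 (Fin.ofNat 12 (6 + j.val))) (hw8 (Fin.ofNat 12 (8 + k.val)))))
    rw [hd', show c' = d from Subtype.ext (hc'.trans hd.symm)]
  · intro c hc
    rw [show c = fE from Subtype.ext hc, hgf]
  · intro c hc
    rw [show c = qE from Subtype.ext hc, ← hg']
    rw [Commute, SemiconjBy, ← mul_inv_eq_one, mul_inv_rev, ← mul_assoc]
    exact hw

end Frame

end Cfsg.Agent.AltTwelve.Fus
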